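import Cfsg.Agent.Lib.SL2Fpf.Group
import Cfsg.Prelude.Def_BaumannBlocks

/-!
# The splitting of the two-group into natural modules
-/

set_option autoImplicit false
set_option linter.unusedSectionVars false
set_option linter.style.haveILetI false

namespace CfsgLib.SL2Fpf

open CfsgLib.SL2 CfsgLib.SL2Module
open scoped MatrixGroups IsMulCommutative

universe u v

variable {K : Type v} [Field K] [Finite K] [CharP K 2] {G : Type u} [Group G]

theorem exists_split [Finite G] (Q : Subgroup G) [Q.Normal] [IsMulCommutative Q] (e : G ⧸ Q ≃* SL(2, K))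
    (hc : ∀ q ∈ Q, ∀ l ∈ Q, q * l * q⁻¹ = l) (co : Coords (actHom Q e Q hc)) :
    ∃ (k : ℕ) (V : Fin k → Subgroup G), (∀ i, V i ≤ Q ∧ (V i).Normal ∧
      Cfsg.ActsAsSL2OnSection K ⊤ ⊤ (V i) ⊥) ∧ iSupIndep V ∧ ⨆ i, V i = Q := by
  haveI : Finite co.W := Finite.of_injective (fun w => co.Φ (w, 0))
    (fun a b h => congrArg Prod.fst (co.Φ.injective h))
  let b := Module.finBasis K co.W
  set k := Module.finrank K co.W
  let g : (co.W × co.W) → G := fun p => ((Additive.toMul (co.Φ p) : Q) : G)
  have g_mem : ∀ p, g p ∈ Q := fun p => (Additive.toMul (co.Φ p)).2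
  have g_add : ∀ p p', g (p + p') = g p * g p' := fun p p' => by
    show ((Additive.toMul (co.Φ (p + p')) : Q) : G) = _
    rw [map_add]; rfl
  have g_zero : g 0 = 1 := by
    show ((Additive.toMul (co.Φ 0) : Q) : G) = _
    rw [map_zero]; rfl
  have g_inj : Function.Injective g := fun p p' h =>
    co.Φ.injective (Additive.toMul.injective (Subtype.ext h))
  have g_surj : ∀ q ∈ Q, ∃ p, g p = q := fun q hq => by
    obtain ⟨p, hp⟩ := co.Φ.surjective (Additive.ofMul ⟨q, hq⟩)
    exact ⟨p, by show ((Additive.toMul (co.Φ p) : Q) : G) = q; rw [hp]; rfl⟩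
  -- the coordinates of the natural modules
  let pt : Fin k → (Fin 2 → K) → co.W × co.W := fun i v => (v 0 • b i, v 1 • b i)
  let f : Fin k → (Multiplicative (Fin 2 → K) →* G) := fun i =>
    { toFun := fun v => g (pt i (Multiplicative.toAdd v))
      map_one' := by
        rw [← g_zero]
        exact congrArg g (Prod.ext (zero_smul K _) (zero_smul K _))
      map_mul' := fun v w => by
        rw [← g_add]
        exact congrArg g (Prod.ext (add_smul _ _ _) (add_smul _ _ _)) }
  have f_inj : ∀ i, Function.Injective (f i) := fun i v w h => by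
    have h' := g_inj (show g (pt i (Multiplicative.toAdd v)) = g (pt i (Multiplicative.toAdd w)) from h)
    have hb : b i ≠ 0 := b.ne_zero i
    apply Multiplicative.toAdd.injective
    funext j
    fin_cases j
    · exact smul_left_injective K hb (congrArg Prod.fst h')
    · exact smul_left_injective K hb (congrArg Prod.snd h')
  have key : ∀ (s : SL(2, K)) (i : Fin k) (v : Fin 2 → K),
      actHom Q e Q hc s (co.Φ (pt i v)) = co.Φ (pt i ((s : Matrix (Fin 2) (Fin 2) K).mulVec v)) := by
    intro s i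
    induction s using forall_of_gen with
    | h1 => intro v; rw [map_one, Matrix.SpecialLinearGroup.coe_one, Matrix.one_mulVec]; rfl
    | hmul s t hs ht =>
      intro v
      rw [map_mul, Matrix.SpecialLinearGroup.coe_mul, ← Matrix.mulVec_mulVec, ← hs, ← ht]
      rfl
    | hu t =>
      intro v
      show _ = co.Φ (_, _)
      rw [co.up_apply, smul_smul, ← add_smul]
      simp [up_coe, Matrix.mulVec, dotProduct, Fin.sum_univ_two]
    | hw =>
      intro v
      show _ = co.Φ (_, _)
      rw [co.wm_apply]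
      simp [wm_coe, Matrix.mulVec, dotProduct, Fin.sum_univ_two, CharTwo.neg_eq]
  have hconj : ∀ (x : G) (i : Fin k) (v : Fin 2 → K), x * f i (Multiplicative.ofAdd v) * x⁻¹ =
      f i (Multiplicative.ofAdd ((e (x : G ⧸ Q) : Matrix (Fin 2) (Fin 2) K).mulVec v)) := fun x i v => by
    show x * g (pt i v) * x⁻¹ = g (pt i _)
    exact ((actHom_apply Q e Q hc x (co.Φ (pt i v))).symm.trans
      (congrArg (fun t : Additive Q => ((Additive.toMul t : Q) : G)) (key _ i v)))
  refine ⟨k, fun i => (f i).range, fun i => ⟨?_, ?_, ?_⟩, ?_, ?_⟩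
  · rintro _ ⟨v, rfl⟩; exact g_mem _
  · exact ⟨fun z hz x => by
      obtain ⟨v, rfl⟩ := hz
      exact ⟨_, (hconj x i (Multiplicative.toAdd v)).symm⟩⟩
  · refine ⟨?_, bot_le, ?_⟩
    · intro x _
      rw [Subgroup.mem_normalizer_iff]
      intro z
      constructor
      · rintro ⟨v, rfl⟩
        exact ⟨_, (hconj x i (Multiplicative.toAdd v)).symm⟩
      · rintro ⟨v, hv⟩
        refine ⟨_, ((hconj x⁻¹ i (Multiplicative.toAdd v)).symm.trans ?_)⟩
        show x⁻¹ * f i v * x⁻¹⁻¹ = z
        rw [hv]; group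
    refine ⟨(e.toMonoidHom.comp (QuotientGroup.mk' Q)).comp (⊤ : Subgroup G).subtype,
      (MonoidHom.ofInjective (f_inj i)).symm.toMonoidHom, ?_, MulEquiv.surjective _, ?_, ?_⟩
    · rw [MonoidHom.range_eq_top]
      intro s
      obtain ⟨x, hx⟩ := QuotientGroup.mk_surjective (e.symm s)
      refine ⟨⟨x, Subgroup.mem_top x⟩, ?_⟩
      show e (x : G ⧸ Q) = s
      rw [hx, e.apply_symm_apply]
    · intro u
      rw [Subgroup.mem_bot, MulEquiv.coe_toMonoidHom, MulEquiv.map_eq_one_iff]
      exact ⟨fun h => by rw [h]; rfl, fun h => Subtype.ext h⟩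
    · intro x u
      obtain ⟨v, rfl⟩ := (MonoidHom.ofInjective (f_inj i)).surjective u
      refine ⟨MonoidHom.ofInjective (f_inj i) (Multiplicative.ofAdd
        ((e ((x : G) : G ⧸ Q) : Matrix (Fin 2) (Fin 2) K).mulVec (Multiplicative.toAdd v))), ?_, ?_⟩
      · exact (hconj (x : G) i (Multiplicative.toAdd v)).symm
      · simp only [MulEquiv.coe_toMonoidHom, MulEquiv.symm_apply_apply]
        rfl
  · intro i
    let H : Subgroup G :=
      { carrier := {q | ∃ p : co.W × co.W, g p = q ∧ b.repr p.1 i = 0 ∧ b.repr p.2 i = 0}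
        one_mem' := ⟨0, g_zero, by simp, by simp⟩
        mul_mem' := by
          rintro _ _ ⟨p, rfl, h1, h2⟩ ⟨p', rfl, h1', h2'⟩
          exact ⟨p + p', g_add p p', by simp [h1, h1'], by simp [h2, h2']⟩
        inv_mem' := by
          rintro _ ⟨p, rfl, h1, h2⟩
          refine ⟨-p, eq_inv_of_mul_eq_one_left ?_, by simp [h1], by simp [h2]⟩
          rw [← g_add, neg_add_cancel, g_zero] }
    have hle : (⨆ (j : Fin k) (_ : j ≠ i), (f j).range) ≤ H := iSup₂_le fun j hj => by
      rintro _ ⟨v, rfl⟩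
      exact ⟨pt j (Multiplicative.toAdd v), rfl, by simp [pt, Finsupp.single_apply, hj],
        by simp [pt, Finsupp.single_apply, hj]⟩
    rw [disjoint_iff, eq_bot_iff]
    rintro z ⟨⟨v, rfl⟩, hz⟩
    obtain ⟨p, hp, h1, h2⟩ := hle hz
    have hp' := g_inj (hp : g p = g (pt i (Multiplicative.toAdd v)))
    subst hp'
    simp [pt] at h1 h2
    rw [Subgroup.mem_bot, show v = 1 from Multiplicative.toAdd.injective (funext fun j => by
      fin_cases j
      · exact h1
      · exact h2), map_one]
  · refine le_antisymm (iSup_le fun i => by rintro _ ⟨v, rfl⟩; exact g_mem _) fun q hq => ?_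
    obtain ⟨p, rfl⟩ := g_surj q hq
    let S : AddSubgroup (co.W × co.W) :=
      { carrier := {p | g p ∈ ⨆ i, (f i).range}
        zero_mem' := by show g 0 ∈ ⨆ i, (f i).range; rw [g_zero]; exact one_mem _
        add_mem' := fun {p p'} h h' => by show g (p + p') ∈ ⨆ i, (f i).range; rw [g_add]; exact mul_mem h h'
        neg_mem' := fun {p} h => by
          show g (-p) ∈ ⨆ i, (f i).range
          rw [eq_inv_of_mul_eq_one_left (show g (-p) * g p = 1 by rw [← g_add, neg_add_cancel, g_zero])]
          exact inv_mem h }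
    show p ∈ S
    have hp : p = ∑ i, pt i ![b.repr p.1 i, b.repr p.2 i] := by
      apply Prod.ext
      · rw [Prod.fst_sum]; simp [pt, b.sum_repr]
      · rw [Prod.snd_sum]; simp [pt, b.sum_repr]
    rw [hp]
    exact S.sum_mem fun i _ => Subgroup.mem_iSup_of_mem i ⟨Multiplicative.ofAdd ![b.repr p.1 i, b.repr p.2 i], rfl⟩

end CfsgLib.SL2Fpf
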