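import Cfsg.Agent.Lib.SL2Fpf.Module

/-!
# Extensions of sums of natural modules of `SL₂(2ⁿ)`

An equivariant alternating pairing between such modules vanishes, and there is no such module of
exponent four.
-/

set_option autoImplicit false
set_option linter.unusedSectionVars false
set_option linter.style.haveILetI false

namespace CfsgLib.SL2Fpf

open CfsgLib.SL2 CfsgLib.SL2Module
open scoped MatrixGroups

universe u u' v

variable {K : Type v} [Field K] [Finite K] [CharP K 2] {M : Type u} [AddCommGroup M]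
  {M' : Type u'} [AddCommGroup M']

/-- The companion matrix of `X² + X + 1`. -/
def sm : SL(2, K) := ⟨!![0, 1; 1, 1], by simp [Matrix.det_fin_two_of, CharTwo.neg_eq]⟩

theorem exists_conj_sm {g : SL(2, K)} (h3 : g ^ 3 = 1) (h1 : g ≠ 1) :
    ∃ P : SL(2, K), g * P = P * sm := by
  have hg3 : (g : Matrix (Fin 2) (Fin 2) K) * g * g = 1 := by
    rw [← Matrix.SpecialLinearGroup.coe_mul, ← Matrix.SpecialLinearGroup.coe_mul]
    rw [pow_three, ← mul_assoc] at h3
    rw [h3, Matrix.SpecialLinearGroup.coe_one]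
  obtain ⟨m, hm⟩ := g
  set a := m 0 0 with ha
  set b := m 0 1 with hb
  set c := m 1 0 with hc
  set d := m 1 1 with hd
  have hdet : a * d + b * c = 1 := by
    rw [← CharTwo.sub_eq_add, ← hm, Matrix.det_fin_two]
  have hcube : m * m * m = 1 := hg3
  have e01 := congrFun (congrFun hcube 0) 1
  have e10 := congrFun (congrFun hcube 1) 0
  have e00 := congrFun (congrFun hcube 0) 0
  have e11 := congrFun (congrFun hcube 1) 1
  simp only [Matrix.mul_apply, Fin.sum_univ_two, ← ha, ← hb, ← hc, ← hd, Matrix.one_apply_eq,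
    Matrix.one_apply_ne (show (0 : Fin 2) ≠ 1 by decide),
    Matrix.one_apply_ne (show (1 : Fin 2) ≠ 0 by decide)] at e01 e10 e00 e11
  have h2 : (2 : K) = 0 := two_eq
  have ht : a + d = 1 := by
    by_contra hne
    have hk : ∀ y : K, ((a + d) * (a + d) + 1) * y = 0 → y = 0 := fun y hy => by
      rcases mul_eq_zero.mp hy with h | h
      · exfalso; apply hne
        have : (a + d + 1) * (a + d + 1) = 0 := by linear_combination h + (a + d) * h2
        exact CharTwo.add_eq_zero.mp (mul_self_eq_zero.mp this)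
      · exact h
    have hb0 : b = 0 := hk b (by linear_combination e01 - b * hdet + a * b * d * h2)
    have hc0 : c = 0 := hk c (by linear_combination e10 - c * hdet + a * c * d * h2)
    rw [hb0, hc0] at e00 e11 hdet
    simp only [mul_zero, zero_mul, add_zero, zero_add] at e00 e11 hdet
    apply h1
    have haa : a = 1 ∧ d = 1 := by
      by_contra hnot
      have hfa : a * a + a + 1 = 0 ∨ a = 1 := by
        rcases eq_or_ne a 1 with h | h
        · exact Or.inr h
        · left
          have : (a + 1) * (a * a + a + 1) = 0 := by linear_combination e00 + (a * a + a + 1) * h2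
          exact (mul_eq_zero.mp this).resolve_left fun e => h (CharTwo.add_eq_zero.mp e)
      rcases hfa with hfa | hfa
      · apply hne
        have : a * (a + d + 1) = 0 := by linear_combination hfa + hdet
        have ha0 : a ≠ 0 := fun e => by simp [e] at hdet
        exact CharTwo.add_eq_zero.mp ((mul_eq_zero.mp this).resolve_left ha0)
      · apply hnot
        refine ⟨hfa, ?_⟩
        rwa [hfa, one_mul] at hdet
    apply Subtype.ext
    show m = ((1 : SL(2, K)) : Matrix (Fin 2) (Fin 2) K)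
    rw [Matrix.SpecialLinearGroup.coe_one]
    ext i j
    fin_cases i <;> fin_cases j
    · simpa [← ha] using haa.1
    · simpa [← hb] using hb0
    · simpa [← hc] using hc0
    · simpa [← hd] using haa.2
  -- a vector which is not an eigenvector
  obtain ⟨x, y, hxy⟩ : ∃ x y : K, c * (x * x) + x * y + b * (y * y) ≠ 0 := by
    rcases eq_or_ne c 0 with hc0 | hc0
    · rcases eq_or_ne b 0 with hb0 | hb0
      · exact ⟨1, 1, by simp [hc0, hb0]⟩
      · exact ⟨0, 1, by simpa using hb0⟩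
    · exact ⟨1, 0, by simpa using hc0⟩
  obtain ⟨s, hs⟩ := surjective_frobenius K 2 (c * (x * x) + x * y + b * (y * y))⁻¹
  rw [frobenius_def] at hs
  have hdetP : (!![s * x, s * (a * x + b * y); s * y, s * (c * x + d * y)] :
      Matrix (Fin 2) (Fin 2) K).det = 1 := by
    rw [Matrix.det_fin_two_of, CharTwo.sub_eq_add]
    have : s ^ 2 * (c * (x * x) + x * y + b * (y * y)) = 1 := by rw [hs, inv_mul_cancel₀ hxy]
    linear_combination this + s ^ 2 * x * y * ht
  refine ⟨⟨_, hdetP⟩, Subtype.ext ?_⟩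
  show m * !![s * x, s * (a * x + b * y); s * y, s * (c * x + d * y)] =
    !![s * x, s * (a * x + b * y); s * y, s * (c * x + d * y)] * !![0, 1; 1, 1]
  ext i j
  fin_cases i <;> fin_cases j <;>
    simp [Matrix.mul_apply, Fin.sum_univ_two, ← ha, ← hb, ← hc, ← hd]
  · ring
  · linear_combination s * x * a * ht + s * b * y * ht + s * x * hdet - s * x * a * d * h2
  · ring
  · linear_combination s * c * x * ht + s * y * d * ht + s * y * hdet - s * y * a * d * h2

theorem app_inv (ρ : SL(2, K) →* AddMonoid.End M) (g : SL(2, K)) (v : M) : ρ g (ρ g⁻¹ v) = v := by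
  rw [show ρ g (ρ g⁻¹ v) = (ρ g * ρ g⁻¹) v from rfl, ← map_mul, mul_inv_cancel, map_one]
  rfl

theorem inv_app (ρ : SL(2, K) →* AddMonoid.End M) (g : SL(2, K)) (v : M) : ρ g⁻¹ (ρ g v) = v := by
  simpa using app_inv ρ g⁻¹ v

theorem comp_app (ρ : SL(2, K) →* AddMonoid.End M) (g h : SL(2, K)) (v : M) :
    ρ (g * h) v = ρ g (ρ h v) := by rw [map_mul]; rfl

theorem one_app (ρ : SL(2, K) →* AddMonoid.End M) (v : M) : ρ 1 v = v := by rw [map_one]; rfl

theorem Fpf.of_one {ρ : SL(2, K) →* AddMonoid.End M} (two : ∀ v : M, v + v = 0) {x : SL(2, K)}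
    (hx : x ^ 3 = 1) (hx1 : x ≠ 1) (hfix : ∀ v, ρ x v = v → v = 0) : Fpf ρ := by
  refine ⟨two, fun g hg hg1 => AddMonoidHom.ext fun v => ?_⟩
  obtain ⟨P, hP⟩ := exists_conj_sm hx hx1
  obtain ⟨P', hP'⟩ := exists_conj_sm hg hg1
  have hg' : g = P' * P⁻¹ * x * (P' * P⁻¹)⁻¹ := by
    rw [eq_mul_inv_iff_mul_eq.mpr hP, eq_mul_inv_iff_mul_eq.mpr hP']
    group
  set R := P' * P⁻¹
  show ρ g (ρ g v) + ρ g v + v = 0
  have key : ∀ w, ρ x (ρ x w) + ρ x w + w = 0 := fun w => hfix _ (by
    have h3 : ρ x (ρ x (ρ x w)) = w := by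
      have := DFunLike.congr_fun (congrArg ρ hx) w
      rw [pow_succ, pow_two, map_mul, map_mul, map_one] at this
      exact this
    rw [map_add, map_add, h3]
    abel)
  have hR : ∀ w, ρ R (ρ R⁻¹ w) = w := fun w => app_inv ρ R w
  have hR' : ∀ w, ρ R⁻¹ (ρ R w) = w := fun w => inv_app ρ R w
  have hgv : ∀ w, ρ g w = ρ R (ρ x (ρ R⁻¹ w)) := fun w => by
    rw [hg', map_mul, map_mul]; rfl
  rw [hgv, hgv, hR']
  have := congrArg (ρ R) (key (ρ R⁻¹ v))
  rwa [map_add, map_add, hR, map_zero] at this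

/-- An alternating equivariant pairing vanishes. -/
theorem pairing_zero {ρ : SL(2, K) →* AddMonoid.End M} {σ : SL(2, K) →* AddMonoid.End M'}
    (hρ : Fpf ρ) (hσ : Fpf σ) {d₀ : K} (hd₀ : d₀ ≠ 0) (hd₁ : d₀ ≠ 1) (C : M →+ M →+ M')
    (halt : ∀ m, C m m = 0) (heq : ∀ g a b, C (ρ g a) (ρ g b) = σ g (C a b)) :
    ∀ a b, C a b = 0 := by
  obtain ⟨cM⟩ := hρ.nonempty_coords
  obtain ⟨cN⟩ := hσ.nonempty_coords
  let T : cM.W → M := fun a => cM.Φ (a, 0)
  let B : cM.W → M := fun a => cM.Φ (0, a)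
  let fs : M' → cN.W := fun m => (cN.Φ.symm m).1
  let sn : M' → cN.W := fun m => (cN.Φ.symm m).2
  have hN : ∀ m, cN.Φ (fs m, sn m) = m := fun m => cN.Φ.apply_symm_apply m
  have hsym : ∀ a b, C a b = C b a := fun a b => by
    have h := halt (a + b)
    simp only [map_add, AddMonoidHom.add_apply, halt, zero_add, add_zero] at h
    have h' := congrArg (· + C a b) h
    simp only [zero_add] at h'
    rw [← h', add_assoc, hσ.two, add_zero]
  have hTfix : ∀ c a, ρ (up c) (T a) = T a := fun c a => by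
    show ρ (up c) (cM.Φ (a, 0)) = _
    rw [cM.up_apply, smul_zero, add_zero]
  have htop : ∀ a b, sn (C (T a) (T b)) = 0 := fun a b => by
    have h := heq (up 1) (T a) (T b)
    rw [hTfix, hTfix] at h
    conv_rhs at h => rw [← hN (C (T a) (T b)), cN.up_apply, one_smul]
    conv_lhs at h => rw [← hN (C (T a) (T b))]
    exact left_eq_add.mp (congrArg Prod.fst (cN.Φ.injective h))
  have hBup : ∀ d b, ρ (up d) (B b) = T (d • b) + B b := fun d b => by
    show ρ (up d) (cM.Φ (0, b)) = cM.Φ _ + cM.Φ _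
    rw [cM.up_apply, ← map_add, Prod.mk_add_mk, add_zero, zero_add, zero_add]
  have hlin : ∀ a b d, fs (C (T a) (T (d • b))) = d • sn (C (T a) (B b)) := fun a b d => by
    have h := heq (up d) (T a) (B b)
    rw [hTfix, hBup, map_add] at h
    obtain ⟨⟨P, R⟩, hp⟩ := cN.Φ.surjective (C (T a) (B b))
    obtain ⟨⟨G₁, G₂⟩, hg⟩ := cN.Φ.surjective (C (T a) (T (d • b)))
    rw [← hp, ← hg, cN.up_apply, ← map_add, Prod.mk_add_mk] at h
    have h1 : G₁ + P = P + d • R := congrArg Prod.fst (cN.Φ.injective h)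
    rw [add_comm G₁] at h1
    rw [← hp, ← hg]
    simp only [fs, sn, AddEquiv.symm_apply_apply]
    exact add_left_cancel h1
  have hlin' : ∀ a b d, fs (C (T a) (T (d • b))) = d • fs (C (T a) (T b)) := fun a b d => by
    have h1 := hlin a b 1
    rw [one_smul, one_smul] at h1
    rw [hlin, h1]
  have hTT : ∀ a b, C (T a) (T b) = 0 := fun a b => by
    have h := heq (dm d₀ hd₀) (T a) (T b)
    have hdm : ∀ x, ρ (dm d₀ hd₀) (T x) = T (d₀ • x) := fun x => by
      show ρ (dm d₀ hd₀) (cM.Φ (x, 0)) = _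
      rw [cM.dm_apply, smul_zero]
    rw [hdm, hdm] at h
    have hf := congrArg fs h
    rw [hlin', hsym, hlin', hsym] at hf
    conv_rhs at hf => rw [← hN (C (T a) (T b)), cN.dm_apply]
    have e : fs (cN.Φ (d₀ • fs (C (T a) (T b)), d₀⁻¹ • sn (C (T a) (T b)))) =
        d₀ • fs (C (T a) (T b)) := congrArg Prod.fst (cN.Φ.symm_apply_apply _)
    rw [e] at hf
    have h2 : d₀ • fs (C (T a) (T b)) = fs (C (T a) (T b)) := smul_right_injective cN.W hd₀ hf
    have h3 : fs (C (T a) (T b)) = 0 := by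
      have : (d₀ - 1) • fs (C (T a) (T b)) = 0 := by rw [sub_smul, one_smul, h2, sub_self]
      exact (smul_eq_zero.mp this).resolve_left (sub_ne_zero.mpr hd₁)
    rw [← hN (C (T a) (T b)), h3, htop]
    exact map_zero cN.Φ
  have hwT : ∀ a, ρ wm (T a) = B a := fun a => cM.wm_apply a 0
  have hwB : ∀ a, ρ wm (B a) = T a := fun a => cM.wm_apply 0 a
  have hBB : ∀ a b, C (B a) (B b) = 0 := fun a b => by
    rw [← hwT, ← hwT, heq, hTT, map_zero]
  have hsn : ∀ a b, sn (C (T a) (B b)) = 0 := fun a b => by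
    have h := hlin a b 1
    rw [one_smul, hTT, one_smul] at h
    rw [← h]
    show (cN.Φ.symm 0).1 = 0
    rw [map_zero]; rfl
  have hTB : ∀ a b, C (T a) (B b) = 0 := fun a b => by
    have h := heq wm (T a) (B b)
    rw [hwT, hwB, hsym, ← hN (C (T b) (B a)), hsn, ← hN (C (T a) (B b)), cN.wm_apply, hsn] at h
    have h1 := congrArg Prod.snd (cN.Φ.injective h)
    rw [← hN (C (T a) (B b)), hsn, show fs (C (T a) (B b)) = 0 from h1.symm]
    exact map_zero cN.Φ
  intro a b
  have hsplit : ∀ m, m = T (cM.Φ.symm m).1 + B (cM.Φ.symm m).2 := fun m => by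
    show m = cM.Φ _ + cM.Φ _
    rw [← map_add, Prod.mk_add_mk, add_zero, zero_add, Prod.mk.eta, AddEquiv.apply_symm_apply]
  rw [hsplit a, hsplit b]
  simp only [map_add, AddMonoidHom.add_apply, hTT, hBB, hTB, hsym (B _) (T _), add_zero]

section Square

variable (ρ : SL(2, K) →* AddMonoid.End M)

/-- The elements killed by doubling. -/
def omega (M : Type u) [AddCommGroup M] : AddSubgroup M := (AddMonoidHom.id M + AddMonoidHom.id M).ker

theorem mem_omega {m : M} : m ∈ omega M ↔ m + m = 0 := Iff.rfl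

/-- The action on the elements killed by doubling. -/
def omegaHom : SL(2, K) →* AddMonoid.End (omega M) where
  toFun g := ((ρ g : M →+ M).comp (omega M).subtype).codRestrict (omega M) fun m => by
    rw [mem_omega]
    show ρ g (m : M) + ρ g (m : M) = 0
    rw [← map_add, mem_omega.mp m.2, map_zero]
  map_one' := by
    ext m
    show ρ 1 (m : M) = _
    rw [map_one]; rfl
  map_mul' g g' := by
    ext m
    show ρ (g * g') (m : M) = _
    rw [map_mul]; rfl

/-- There is no fixed-point-free module of exponent four. -/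
theorem two_zero {c : K} (hc0 : c ≠ 0) (hc1 : c ≠ 1) (h4 : ∀ m : M, (m + m) + (m + m) = 0)
    {x : SL(2, K)} (hx : x ^ 3 = 1) (hx1 : x ≠ 1) (hfix : ∀ v, ρ x v = v → v = 0) :
    ∀ m : M, m + m = 0 := by
  have hΩ : Fpf (omegaHom ρ) := Fpf.of_one (fun v => Subtype.ext (mem_omega.mp v.2)) hx hx1
    fun v hv => Subtype.ext (hfix _ (congrArg Subtype.val hv))
  obtain ⟨co⟩ := hΩ.nonempty_coords
  let J : co.W × co.W →+ M := (omega M).subtype.comp co.Φ.toAddMonoidHom
  have hJinj : Function.Injective J := Subtype.val_injective.comp co.Φ.injective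
  have hJup : ∀ d a b, ρ (up d) (J (a, b)) = J (a + d • b, b) := fun d a b =>
    congrArg Subtype.val (co.up_apply d a b)
  have hJwm : ∀ a b, ρ wm (J (a, b)) = J (b, a) := fun a b => congrArg Subtype.val (co.wm_apply a b)
  have hJdm : ∀ d (hd : d ≠ 0) a b, ρ (dm d hd) (J (a, b)) = J (d • a, d⁻¹ • b) := fun d hd a b =>
    congrArg Subtype.val (co.dm_apply d hd a b)
  have hJsurj : ∀ w : M, w + w = 0 → ∃ p, J p = w := fun w hw =>
    ⟨co.Φ.symm ⟨w, mem_omega.mpr hw⟩, congrArg Subtype.val (co.Φ.apply_symm_apply _)⟩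
  have hneg : ∀ p, -J p = J p := fun p =>
    neg_eq_of_add_eq_zero_left (mem_omega.mp (co.Φ p).2)
  have htwoW : ∀ z : co.W, z + z = 0 := fun z => by rw [← two_smul K z, two_eq, zero_smul]
  let S : Set co.W := {t | ∃ m, m + m = J (0, t)}
  have hSup : ∀ {a b m}, m + m = J (a, b) → b ∈ S := fun {a b m} hm => by
    refine ⟨ρ wm (ρ (up 1) m - m), ?_⟩
    rw [← map_add, show ρ (up 1) m - m + (ρ (up 1) m - m) = ρ (up 1) (m + m) - (m + m) by
      rw [map_add]; abel, hm, hJup, one_smul, ← map_sub, Prod.mk_sub_mk, add_sub_cancel_left, sub_self,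
      hJwm]
  have hSsmul : ∀ {t} (d : K), d ≠ 0 → t ∈ S → d • t ∈ S := fun {t} d hd ⟨m, hm⟩ => by
    refine ⟨ρ wm (ρ (dm d hd) (ρ wm m)), ?_⟩
    rw [← map_add, ← map_add, ← map_add, hm, hJwm, hJdm, smul_zero, hJwm]
  suffices hS : ∀ t ∈ S, t = 0 by
    intro m
    obtain ⟨⟨a, b⟩, hp⟩ := hJsurj (m + m) (h4 m)
    have hb : b = 0 := hS b (hSup hp.symm)
    have ha : a = 0 := hS a (hSup (m := ρ wm m) (a := b) (by rw [← map_add, ← hp, hJwm]))
    rw [← hp, ha, hb]
    exact map_zero J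
  let D : AddMonoid.End M := ρ (up 1) - 1
  let D' : AddMonoid.End M := ρ (up c) - 1
  have hD : ∀ m, D m = ρ (up 1) m - m := fun m => rfl
  have hD' : ∀ m, D' m = ρ (up c) m - m := fun m => rfl
  have hDJ : ∀ a b, D (J (a, b)) = J (b, 0) := fun a b => by
    rw [hD, hJup, one_smul, ← map_sub, Prod.mk_sub_mk, add_sub_cancel_left, sub_self]
  have hD'J : ∀ a b, D' (J (a, b)) = J (c • b, 0) := fun a b => by
    rw [hD', hJup, ← map_sub, Prod.mk_sub_mk, add_sub_cancel_left, sub_self]
  have hcomm : ∀ m, D (D' m) = D' (D m) := fun m => by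
    have : ρ (up 1) (ρ (up c) m) = ρ (up c) (ρ (up 1) m) := by
      rw [← comp_app, ← comp_app, ← up_add, ← up_add, add_comm]
    simp only [hD, hD', map_sub, this]
    abel
  have hsq : ∀ (d : K) m, ρ (up d) (ρ (up d) m - m) - (ρ (up d) m - m) =
      -((ρ (up d) m - m) + (ρ (up d) m - m)) := fun d m => by
    have : ρ (up d) (ρ (up d) m) = m := by rw [← comp_app, up_sq, one_app]
    rw [map_sub, this]
    abel
  have hDD : ∀ m, D (D m) = -(D (m + m)) := fun m => by
    rw [map_add]; exact hsq 1 m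
  have hD'D' : ∀ m, D' (D' m) = -(D' (m + m)) := fun m => by
    rw [map_add]; exact hsq c m
  have hex : ∀ t ∈ S, ∃ s, ∀ m, m + m = J (0, t) → D (D' m) = J (s, 0) := by
    rintro t ⟨m, hm⟩
    obtain ⟨⟨s, r⟩, hs⟩ := hJsurj (D (D' m)) (by
      rw [← map_add, ← map_add, hm, hD'J, hDJ]; exact map_zero J)
    have hr : r = 0 := by
      have h1 := hDJ s r
      rw [hs, hDD, ← map_add D' m m, hm, hD'J, hDJ] at h1
      have : ((0 : co.W), (0 : co.W)) = (r, 0) := hJinj (by
        rw [← h1]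
        show J (0, 0) = -J (0, 0)
        rw [hneg])
      exact (congrArg Prod.fst this).symm
    subst hr
    refine ⟨s, fun m' hm' => ?_⟩
    obtain ⟨⟨a, b⟩, hp⟩ := hJsurj (m' - m) (by
      rw [show m' - m + (m' - m) = (m' + m') - (m + m) by abel, hm, hm', sub_self])
    rw [show m' = m + J (a, b) by rw [hp]; abel, map_add, map_add, hD'J, hDJ, hs]
    show D (D' m) + J 0 = D (D' m)
    rw [map_zero, add_zero]
  choose φ hφ using hex
  have hder : ∀ t (ht : t ∈ S), φ (c • t) (hSsmul c hc0 ht) = c • φ t ht + (c + c * c) • t := by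
    intro t ht
    obtain ⟨m, hm⟩ := ht
    obtain ⟨m', hm'⟩ := hSsmul c hc0 ⟨m, hm⟩
    obtain ⟨⟨z₁, z₂⟩, hz⟩ := hJsurj (D' m - D m') (by
      rw [show D' m - D m' + (D' m - D m') = D' (m + m) - D (m' + m') by
        rw [map_add, map_add]; abel, hm, hm', hD'J, hDJ, sub_self])
    have e1 := congrArg D hz
    rw [hDJ, map_sub, hφ t ⟨m, hm⟩ m hm, hDD, hm', hDJ, sub_neg_eq_add, ← map_add,
      Prod.mk_add_mk, add_zero] at e1
    have f1 : z₂ = φ t ⟨m, hm⟩ + c • t := congrArg Prod.fst (hJinj e1)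
    have e2 := congrArg D' hz
    rw [hD'J, map_sub, hD'D', hm, hD'J, hneg, ← hcomm, hφ (c • t) (hSsmul c hc0 ⟨m, hm⟩) m' hm', ← map_sub,
      Prod.mk_sub_mk, sub_zero] at e2
    have f2 : c • z₂ = c • t - φ (c • t) (hSsmul c hc0 ⟨m, hm⟩) := congrArg Prod.fst (hJinj e2)
    rw [f1] at f2
    have hsub : ∀ a b : co.W, a - b = a + b := fun a b => by
      rw [sub_eq_iff_eq_add, add_assoc, htwoW, add_zero]
    rw [hsub] at f2
    calc φ (c • t) _ = c • t + (c • t + φ (c • t) (hSsmul c hc0 ⟨m, hm⟩)) := by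
          rw [← add_assoc, htwoW, zero_add]
      _ = c • t + c • (φ t ⟨m, hm⟩ + c • t) := by rw [f2]
      _ = _ := by module
  intro t ht
  have hmem : ∀ j : ℕ, c ^ j • t ∈ S := fun j => hSsmul _ (pow_ne_zero j hc0) ht
  have hcongr : ∀ {s s'} (e : s = s') (hs : s ∈ S) (hs' : s' ∈ S), φ s hs = φ s' hs' := by
    intro s s' e hs hs'; subst e; rfl
  have hiter : ∀ j : ℕ, φ (c ^ (j + 1) • t) (hmem (j + 1)) =
      c ^ (j + 1) • φ t ht + (((j : K) + 1) * (c + c * c) * c ^ j) • t := by
    intro j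
    induction j with
    | zero =>
      rw [hcongr (show c ^ (0 + 1) • t = c • t by simp) _ (hSsmul c hc0 ht), hder t ht]
      simp
    | succ j ih =>
      rw [hcongr (show c ^ (j + 1 + 1) • t = c • c ^ (j + 1) • t by rw [smul_smul, ← pow_succ'])
        _ (hSsmul c hc0 (hmem (j + 1))), hder _ (hmem (j + 1)), ih]
      push_cast
      module
  haveI := Fintype.ofFinite K
  obtain ⟨j, hj⟩ : ∃ j, Fintype.card K = j + 2 :=
    ⟨Fintype.card K - 2, (Nat.sub_add_cancel Fintype.one_lt_card).symm⟩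
  have hpow : c ^ (j + 1) = 1 := by
    have := FiniteField.pow_card_sub_one_eq_one c hc0
    rwa [hj] at this
  have h := hiter j
  rw [hcongr (show c ^ (j + 1) • t = t by rw [hpow, one_smul]) _ ht, hpow, one_smul,
    left_eq_add] at h
  have hj1 : (j : K) + 1 = 1 := by
    have h0 : ((j + 2 : ℕ) : K) = 0 := by rw [← hj]; exact FiniteField.cast_card_eq_zero K
    push_cast at h0
    rw [two_eq, add_zero] at h0
    rw [h0, zero_add]
  rw [hj1, one_mul] at h
  refine (smul_eq_zero.mp h).resolve_left (mul_ne_zero ?_ (pow_ne_zero _ hc0))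
  intro e
  have : c * (c + 1) = 0 := by linear_combination e
  exact hc1 (CharTwo.add_eq_zero.mp ((mul_eq_zero.mp this).resolve_left hc0))

end Square

end CfsgLib.SL2Fpf
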