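import Cfsg.Agent.Lib.SL2Fpf.Extension

/-!
# A two-group extended by `SL₂(2ⁿ)` with a fixed-point-free element of order three is elementary
-/

set_option autoImplicit false
set_option linter.unusedSectionVars false
set_option linter.style.haveILetI false

namespace CfsgLib.SL2Fpf

open CfsgLib.SL2 CfsgLib.SL2Module
open scoped MatrixGroups IsMulCommutative

universe u v

variable {K : Type v} [Field K] [Finite K] [CharP K 2] {G : Type u} [Group G]

section Action

variable (Q : Subgroup G) [Q.Normal] (e : G ⧸ Q ≃* SL(2, K)) (L : Subgroup G) [L.Normal]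
  [IsMulCommutative L] (hc : ∀ q ∈ Q, ∀ l ∈ L, q * l * q⁻¹ = l)

/-- Conjugation on an abelian normal subgroup, as endomorphisms. -/
def conjEnd : G →* AddMonoid.End (Additive L) where
  toFun g := MonoidHom.toAdditive
    ({ toFun := fun l => ⟨g * l * g⁻¹, ‹L.Normal›.conj_mem l l.2 g⟩
       map_one' := by ext; simp
       map_mul' := fun a b => by ext; simp [mul_assoc] } : L →* L)
  map_one' := by
    refine AddMonoidHom.ext fun l => Additive.toMul.injective (Subtype.ext ?_)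
    show (1 : G) * ((Additive.toMul l : L) : G) * (1 : G)⁻¹ = ((Additive.toMul l : L) : G)
    group
  map_mul' g h := by
    refine AddMonoidHom.ext fun l => Additive.toMul.injective (Subtype.ext ?_)
    show g * h * ((Additive.toMul l : L) : G) * (g * h)⁻¹ =
      g * (h * ((Additive.toMul l : L) : G) * h⁻¹) * g⁻¹
    group

theorem conjEnd_apply (g : G) (l : Additive L) :
    ((Additive.toMul (conjEnd L g l) : L) : G) = g * ((Additive.toMul l : L) : G) * g⁻¹ := rfl

/-- The action of the quotient. -/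
def actHom : SL(2, K) →* AddMonoid.End (Additive L) :=
  (QuotientGroup.lift Q (conjEnd L) fun q hq => by
    refine AddMonoidHom.ext fun l => Additive.toMul.injective (Subtype.ext ?_)
    show q * ((Additive.toMul l : L) : G) * q⁻¹ = ((Additive.toMul l : L) : G)
    exact hc q hq _ (Additive.toMul l).2).comp e.symm.toMonoidHom

theorem actHom_apply (g : G) (l : Additive L) :
    ((Additive.toMul (actHom Q e L hc (e (g : G ⧸ Q)) l) : L) : G) =
      g * ((Additive.toMul l : L) : G) * g⁻¹ := by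
  simp only [actHom, MonoidHom.coe_comp, MulEquiv.coe_toMonoidHom, Function.comp_apply,
    MulEquiv.symm_apply_apply, QuotientGroup.lift_mk]
  exact conjEnd_apply L g l

theorem image_three [Finite G] {x : G} (hx : orderOf x = 3) (hxQ : x ∉ Q) :
    (e (x : G ⧸ Q)) ^ 3 = 1 ∧ e (x : G ⧸ Q) ≠ 1 := by
  refine ⟨?_, fun h => hxQ ((QuotientGroup.eq_one_iff x).mp ?_)⟩
  · rw [← map_pow, ← QuotientGroup.mk_pow, ← hx, pow_orderOf_eq_one, QuotientGroup.mk_one, map_one]
  · exact e.map_eq_one_iff.mp h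

theorem fpf_actHom [Finite G] (hL : ∀ l ∈ L, l * l = 1) {x : G} (hx : orderOf x = 3) (hxQ : x ∉ Q)
    (hfix : ∀ l ∈ L, x * l * x⁻¹ = l → l = 1) : Fpf (actHom Q e L hc) := by
  refine Fpf.of_one (fun v => ?_) (image_three Q e hx hxQ).1 (image_three Q e hx hxQ).2 fun v hv => ?_
  · apply Additive.toMul.injective
    exact Subtype.ext (hL _ (Additive.toMul v).2)
  · apply Additive.toMul.injective
    apply Subtype.ext
    apply hfix _ (Additive.toMul v).2
    rw [← actHom_apply Q e L hc x v, hv]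

end Action

theorem not_mem_of_fpf {Q : Subgroup G} {x : G} (hx : orderOf x = 3)
    (hfpf : ∀ q ∈ Q, x * q * x⁻¹ = q → q = 1) : x ∉ Q := fun h => by
  rw [hfpf x h (by group), orderOf_one] at hx
  omega

theorem elementary_aux {c : K} (hc0 : c ≠ 0) (hc1 : c ≠ 1) : ∀ (n : ℕ) (G : Type u) [Group G]
    [Finite G], Nat.card G = n → ∀ (Q : Subgroup G) [Q.Normal], IsPGroup 2 Q →
    ∀ (_ : G ⧸ Q ≃* SL(2, K)) (x : G), orderOf x = 3 → (∀ q ∈ Q, x * q * x⁻¹ = q → q = 1) →
    (∀ a ∈ Q, ∀ b ∈ Q, a * b = b * a) ∧ ∀ a ∈ Q, a * a = 1 := by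
  intro n
  induction n using Nat.strong_induction_on with
  | _ n IH =>
  intro G _ _ hn Q _ hQ e x hx hfpf
  rcases eq_or_ne Q ⊥ with rfl | hQbot
  · exact ⟨fun a ha b hb => by simp_all [Subgroup.mem_bot], fun a ha => by simp_all [Subgroup.mem_bot]⟩
  let N : Subgroup G :=
    { carrier := {z | z ∈ Q ∧ (∀ q ∈ Q, q * z = z * q) ∧ z * z = 1}
      one_mem' := ⟨Q.one_mem, fun q _ => by simp, one_mul 1⟩
      mul_mem' := fun {a b} ha hb => ⟨Q.mul_mem ha.1 hb.1, fun q hq => by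
          rw [← mul_assoc, ha.2.1 q hq, mul_assoc, hb.2.1 q hq, mul_assoc], by
        rw [show a * b * (a * b) = a * (b * a) * b by group, ha.2.1 b hb.1,
          show a * (a * b) * b = (a * a) * (b * b) by group, ha.2.2, hb.2.2, one_mul]⟩
      inv_mem' := fun {a} ha => by
        rw [inv_eq_of_mul_eq_one_right ha.2.2]
        exact ha }
  haveI hNn : N.Normal := ⟨fun z hz g => by
    refine ⟨‹Q.Normal›.conj_mem z hz.1 g, fun q hq => ?_, ?_⟩
    · have := hz.2.1 (g⁻¹ * q * g) (by simpa using ‹Q.Normal›.conj_mem q hq g⁻¹)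
      calc q * (g * z * g⁻¹) = g * ((g⁻¹ * q * g) * z) * g⁻¹ := by group
        _ = g * (z * (g⁻¹ * q * g)) * g⁻¹ := by rw [this]
        _ = g * z * g⁻¹ * q := by group
    · calc g * z * g⁻¹ * (g * z * g⁻¹) = g * (z * z) * g⁻¹ := by group
        _ = 1 := by rw [hz.2.2]; group⟩
  have hNQ : N ≤ Q := fun z hz => hz.1
  have hNne : N ≠ ⊥ := by
    haveI : Nontrivial Q := (Subgroup.nontrivial_iff_ne_bot Q).mpr hQbot
    haveI := hQ.center_nontrivial
    haveI : Fact (Nat.Prime 2) := ⟨Nat.prime_two⟩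
    have hd : 2 ∣ Nat.card (Subgroup.center Q) := by
      obtain ⟨k, hk⟩ := IsPGroup.iff_card.mp (hQ.to_subgroup (Subgroup.center Q))
      have h1 : 1 < Nat.card (Subgroup.center Q) := Finite.one_lt_card
      rw [hk] at h1 ⊢
      exact dvd_pow_self 2 (by rintro rfl; simp at h1)
    obtain ⟨z, hz⟩ := exists_prime_orderOf_dvd_card' 2 hd
    intro hbot
    have hzN : ((z : Q) : G) ∈ N := ⟨(z : Q).2, fun q hq =>
      congrArg (fun t : Q => (t : G)) (Subgroup.mem_center_iff.mp z.2 ⟨q, hq⟩), by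
        have := pow_orderOf_eq_one z
        rw [hz, pow_two] at this
        exact congrArg (fun t : Subgroup.center Q => ((t : Q) : G)) this⟩
    rw [hbot, Subgroup.mem_bot] at hzN
    have hz1 : z = 1 := Subtype.ext (Subtype.ext hzN)
    rw [hz1, orderOf_one] at hz
    omega
  have hxQ : x ∉ Q := not_mem_of_fpf hx hfpf
  -- the quotient by `N`
  let π := QuotientGroup.mk' N
  have hπ : Function.Surjective π := QuotientGroup.mk'_surjective N
  haveI hQ'n : (Q.map π).Normal := ‹Q.Normal›.map π hπ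
  let e' : (G ⧸ N) ⧸ Q.map π ≃* SL(2, K) := (QuotientGroup.quotientQuotientEquivQuotient N Q hNQ).trans e
  have hx' : orderOf (π x) = 3 := by
    haveI : Fact (Nat.Prime 3) := ⟨Nat.prime_three⟩
    refine orderOf_eq_prime ?_ fun h => hxQ (hNQ ((QuotientGroup.eq_one_iff x).mp h))
    rw [← map_pow, ← hx, pow_orderOf_eq_one, map_one]
  have hN2 : ∀ a ∈ N, ∀ b ∈ N, a * b = b * a := fun a ha b hb => hb.2.1 a ha.1
  have hbij : ∀ z ∈ N, ∃ m ∈ N, x * m * x⁻¹ * m⁻¹ = z := by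
    let f : N → N := fun m => ⟨x * m * x⁻¹ * (m : G)⁻¹, N.mul_mem (hNn.conj_mem m m.2 x) (N.inv_mem m.2)⟩
    have hf : Function.Injective f := fun m m' h => by
      have h' : x * (m : G) * x⁻¹ * (m : G)⁻¹ = x * m' * x⁻¹ * (m' : G)⁻¹ := congrArg Subtype.val h
      have hfix : x * ((m' : G)⁻¹ * m) * x⁻¹ = (m' : G)⁻¹ * m := by
        calc x * ((m' : G)⁻¹ * m) * x⁻¹ = (x * (m' : G) * x⁻¹)⁻¹ * (x * m * x⁻¹ * (m : G)⁻¹ * m) := by group
          _ = (x * (m' : G) * x⁻¹)⁻¹ * (x * m' * x⁻¹ * (m' : G)⁻¹ * m) := by rw [h']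
          _ = _ := by group
      exact Subtype.ext (inv_mul_eq_one.mp
        (hfpf _ (hNQ (N.mul_mem (N.inv_mem m'.2) m.2)) hfix)).symm
    intro z hz
    obtain ⟨m, hm⟩ := Finite.injective_iff_surjective.mp hf ⟨z, hz⟩
    exact ⟨m, m.2, congrArg Subtype.val hm⟩
  have hfpf' : ∀ q ∈ Q.map π, π x * q * (π x)⁻¹ = q → q = 1 := by
    rintro _ ⟨q, hq, rfl⟩ h
    rw [← map_inv, ← map_mul, ← map_mul] at h
    obtain ⟨m, hm, hmz⟩ := hbij (q⁻¹ * (x * q * x⁻¹)) ((QuotientGroup.eq_one_iff _).mp (by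
      show π (q⁻¹ * (x * q * x⁻¹)) = 1
      rw [map_mul, h, map_inv, inv_mul_cancel]))
    have hfix : x * (q * m⁻¹) * x⁻¹ = q * m⁻¹ := by
      calc x * (q * m⁻¹) * x⁻¹ = q * (q⁻¹ * (x * q * x⁻¹)) * (x * m * x⁻¹)⁻¹ := by group
        _ = q * ((x * m * x⁻¹) * m⁻¹) * (x * m * x⁻¹)⁻¹ := by rw [hmz]
        _ = q * (m⁻¹ * (x * m * x⁻¹)) * (x * m * x⁻¹)⁻¹ := by
          rw [hN2 _ (hNn.conj_mem m hm x) _ (N.inv_mem hm)]
        _ = _ := by group
    have hqm := hfpf _ (Q.mul_mem hq (Q.inv_mem (hNQ hm))) hfix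
    exact (QuotientGroup.eq_one_iff q).mpr ((mul_inv_eq_one.mp hqm) ▸ hm)
  have hlt : Nat.card (G ⧸ N) < n := by
    rw [← hn, Subgroup.card_eq_card_quotient_mul_card_subgroup N]
    exact lt_mul_of_one_lt_right Nat.card_pos (N.one_lt_card_iff_ne_bot.mpr hNne)
  obtain ⟨hA, hB⟩ := IH _ hlt (G ⧸ N) rfl (Q.map π) (hQ.map π) e' (π x) hx' hfpf'
  -- the commutator pairing
  haveI hQ'c : IsMulCommutative (Q.map π) :=
    ⟨⟨fun a b => Subtype.ext (hA a a.2 b b.2)⟩⟩
  haveI hNc : IsMulCommutative N := ⟨⟨fun a b => Subtype.ext (hN2 a a.2 b b.2)⟩⟩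
  have hρ : Fpf (actHom (Q.map π) e' (Q.map π) fun q hq l hl => by
      rw [hA q hq l hl, mul_inv_cancel_right]) :=
    fpf_actHom _ _ _ _ hB hx' (not_mem_of_fpf hx' hfpf') hfpf'
  have hσ : Fpf (actHom Q e N fun q hq l hl => by rw [hl.2.1 q hq, mul_inv_cancel_right]) :=
    fpf_actHom _ _ _ _ (fun l hl => hl.2.2) hx hxQ fun l hl => hfpf l hl.1
  have hmem : ∀ {a b}, a ∈ Q → b ∈ Q → a * b * a⁻¹ * b⁻¹ ∈ N := fun {a b} ha hb => by
    rw [← QuotientGroup.eq_one_iff]
    show π (a * b * a⁻¹ * b⁻¹) = 1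
    rw [map_mul, map_mul, map_mul, map_inv, map_inv, hA _ ⟨a, ha, rfl⟩ _ ⟨b, hb, rfl⟩]
    group
  let rep : Additive (Q.map π) → G := fun u => Classical.choose (Subgroup.mem_map.mp (Additive.toMul u).2)
  have hrep : ∀ u : Additive (Q.map π), rep u ∈ Q ∧ π (rep u) = ((Additive.toMul u : Q.map π) : G ⧸ N) :=
    fun u => Classical.choose_spec (Subgroup.mem_map.mp (Additive.toMul u).2)
  let pr : Additive (Q.map π) → Additive (Q.map π) → Additive N := fun u v =>
    Additive.ofMul ⟨rep u * rep v * (rep u)⁻¹ * (rep v)⁻¹, hmem (hrep u).1 (hrep v).1⟩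
  have hpr : ∀ u v a b, a ∈ Q → b ∈ Q → π a = ((Additive.toMul u : Q.map π) : G ⧸ N) →
      π b = ((Additive.toMul v : Q.map π) : G ⧸ N) →
      ((Additive.toMul (pr u v) : N) : G) = a * b * a⁻¹ * b⁻¹ := by
    intro u v a b ha hb hau hbv
    have h1 : (rep u)⁻¹ * a ∈ N := by
      rw [← QuotientGroup.eq_one_iff]
      show π ((rep u)⁻¹ * a) = 1
      rw [map_mul, map_inv, (hrep u).2, hau, inv_mul_cancel]
    have h2 : (rep v)⁻¹ * b ∈ N := by
      rw [← QuotientGroup.eq_one_iff]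
      show π ((rep v)⁻¹ * b) = 1
      rw [map_mul, map_inv, (hrep v).2, hbv, inv_mul_cancel]
    show rep u * rep v * (rep u)⁻¹ * (rep v)⁻¹ = _
    obtain ⟨z, hz, rfl⟩ : ∃ z, z ∈ N ∧ a = rep u * z := ⟨_, h1, by group⟩
    obtain ⟨w, hw, rfl⟩ : ∃ w, w ∈ N ∧ b = rep v * w := ⟨_, h2, by group⟩
    have hu := (hrep u).1
    have hv := (hrep v).1
    symm
    calc rep u * z * (rep v * w) * (rep u * z)⁻¹ * (rep v * w)⁻¹
        = rep u * (z * (rep v * w)) * z⁻¹ * (rep u)⁻¹ * w⁻¹ * (rep v)⁻¹ := by group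
      _ = rep u * (rep v * w * z) * z⁻¹ * (rep u)⁻¹ * w⁻¹ * (rep v)⁻¹ := by
        rw [hz.2.1 _ (Q.mul_mem hv (hNQ hw))]
      _ = rep u * rep v * (w * (rep u)⁻¹) * w⁻¹ * (rep v)⁻¹ := by group
      _ = rep u * rep v * ((rep u)⁻¹ * w) * w⁻¹ * (rep v)⁻¹ := by rw [hw.2.1 _ (Q.inv_mem hu)]
      _ = _ := by group
  have hprL : ∀ u u' v, pr (u + u') v = pr u v + pr u' v := fun u u' v => by
    apply Additive.toMul.injective
    apply Subtype.ext
    obtain ⟨hu, hu2⟩ := hrep u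
    obtain ⟨hu', hu2'⟩ := hrep u'
    obtain ⟨hv, hv2⟩ := hrep v
    rw [hpr (u + u') v (rep u * rep u') (rep v) (Q.mul_mem hu hu') hv (by
      rw [map_mul, hu2, hu2']; rfl) hv2]
    show _ = rep u * rep v * (rep u)⁻¹ * (rep v)⁻¹ * (rep u' * rep v * (rep u')⁻¹ * (rep v)⁻¹)
    have hk := hmem hu' hv
    calc rep u * rep u' * rep v * (rep u * rep u')⁻¹ * (rep v)⁻¹
        = rep u * (rep u' * rep v * (rep u')⁻¹ * (rep v)⁻¹) * rep v * (rep u)⁻¹ * (rep v)⁻¹ := by group
      _ = (rep u' * rep v * (rep u')⁻¹ * (rep v)⁻¹) * rep u * rep v * (rep u)⁻¹ * (rep v)⁻¹ := by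
        rw [hk.2.1 _ hu]
      _ = (rep u' * rep v * (rep u')⁻¹ * (rep v)⁻¹) * (rep u * rep v * (rep u)⁻¹ * (rep v)⁻¹) := by group
      _ = _ := hN2 _ hk _ (hmem hu hv)
  have hflip : ∀ u v, pr v u = -pr u v := fun u v => by
    apply Additive.toMul.injective
    apply Subtype.ext
    show rep v * rep u * (rep v)⁻¹ * (rep u)⁻¹ = (rep u * rep v * (rep u)⁻¹ * (rep v)⁻¹)⁻¹
    group
  have hprR : ∀ u v v', pr u (v + v') = pr u v + pr u v' := fun u v v' => by
    rw [hflip (v + v') u, hprL, neg_add, ← hflip, ← hflip]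
  let C : Additive (Q.map π) →+ Additive (Q.map π) →+ Additive N :=
    AddMonoidHom.mk' (fun u => AddMonoidHom.mk' (pr u) (hprR u)) fun u u' => AddMonoidHom.ext (hprL u u')
  have hC : ∀ u v, C u v = 0 := by
    refine pairing_zero hρ hσ hc0 hc1 C (fun u => ?_) ?_
    · apply Additive.toMul.injective
      apply Subtype.ext
      show rep u * rep u * (rep u)⁻¹ * (rep u)⁻¹ = 1
      group
    · intro s u v
      obtain ⟨g, rfl⟩ : ∃ g : G, e (g : G ⧸ Q) = s := by
        obtain ⟨g, hg⟩ := QuotientGroup.mk_surjective (e.symm s)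
        exact ⟨g, by rw [hg, e.apply_symm_apply]⟩
      have he : e (g : G ⧸ Q) = e' ((π g : G ⧸ N) : (G ⧸ N) ⧸ Q.map π) := rfl
      apply Additive.toMul.injective
      apply Subtype.ext
      obtain ⟨hu, hu2⟩ := hrep u
      obtain ⟨hv, hv2⟩ := hrep v
      rw [actHom_apply]
      show ((Additive.toMul (pr _ _) : N) : G) = g * (rep u * rep v * (rep u)⁻¹ * (rep v)⁻¹) * g⁻¹
      rw [hpr _ _ (g * rep u * g⁻¹) (g * rep v * g⁻¹) (‹Q.Normal›.conj_mem _ hu g)
        (‹Q.Normal›.conj_mem _ hv g) (by rw [he, actHom_apply, map_mul, map_mul, map_inv, hu2])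
        (by rw [he, actHom_apply, map_mul, map_mul, map_inv, hv2])]
      group
  have hab : ∀ a ∈ Q, ∀ b ∈ Q, a * b = b * a := fun a ha b hb => by
    have h := congrArg (fun t : Additive N => ((Additive.toMul t : N) : G))
      (hC (Additive.ofMul ⟨π a, a, ha, rfl⟩) (Additive.ofMul ⟨π b, b, hb, rfl⟩))
    change ((Additive.toMul (pr _ _) : N) : G) = 1 at h
    rw [hpr _ _ a b ha hb rfl rfl] at h
    rw [← mul_inv_eq_one, mul_inv_rev, ← h]
    group
  refine ⟨hab, fun a ha => ?_⟩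
  haveI : IsMulCommutative Q := ⟨⟨fun a b => Subtype.ext (hab a a.2 b b.2)⟩⟩
  have key := two_zero (actHom Q e Q fun q hq l hl => by rw [hab q hq l hl, mul_inv_cancel_right])
    hc0 hc1 ?_ (image_three Q e hx hxQ).1 (image_three Q e hx hxQ).2 ?_ (Additive.ofMul ⟨a, ha⟩)
  · exact congrArg (fun t : Additive Q => ((Additive.toMul t : Q) : G)) key
  · intro m
    apply Additive.toMul.injective
    apply Subtype.ext
    have hm : ((Additive.toMul m : Q) : G) * (Additive.toMul m : Q) ∈ N := by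
      rw [← QuotientGroup.eq_one_iff]
      show π _ = 1
      rw [map_mul]
      exact hB _ ⟨_, (Additive.toMul m).2, rfl⟩
    exact hm.2.2
  · intro v hv
    apply Additive.toMul.injective
    apply Subtype.ext
    apply hfpf _ (Additive.toMul v).2
    have := congrArg (fun t : Additive Q => ((Additive.toMul t : Q) : G)) hv
    simp only [actHom_apply] at this
    exact this

end CfsgLib.SL2Fpf
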