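import Cfsg.Agent.Lib.SL2Module.Natural

/-!
# Modules of `SL₂(2ⁿ)` on which elements of order three act without fixed points

The matrix units are `A = ρ(up 1) + 1`, `B = ρ(lo 1) + 1`. The relations force `(ρ(up c) + 1) A = 0`
for every `c`, so the module is a direct sum of natural modules.
-/

set_option autoImplicit false
set_option linter.unusedSectionVars false
set_option linter.style.haveILetI false

namespace CfsgLib.SL2Fpf

open CfsgLib.SL2 CfsgLib.SL2Module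
open scoped MatrixGroups

universe u v

variable {K : Type v} [Field K] [Finite K] [CharP K 2] {M : Type u} [AddCommGroup M]

section Matrices

theorem two_eq : (2 : K) = 0 := CharTwo.two_eq_zero

theorem up_lo_ne_one {a : K} (ha : a ≠ 0) : up a * lo a⁻¹ ≠ 1 := by
  intro h
  have := congrArg (fun g : SL(2, K) => (g : Matrix (Fin 2) (Fin 2) K) 0 1) h
  simp [up_coe, lo_coe, Matrix.mul_apply, Fin.sum_univ_two] at this
  exact ha this

theorem up_lo_sq {a : K} (ha : a ≠ 0) : up a * lo a⁻¹ * (up a * lo a⁻¹) = lo a⁻¹ * up a := by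
  apply Subtype.ext
  simp only [Matrix.SpecialLinearGroup.coe_mul, up_coe, lo_coe]
  ext i j
  fin_cases i <;> fin_cases j <;>
    simp [Matrix.mul_apply, Fin.sum_univ_two, ha, CharTwo.add_self_eq_zero]

theorem up_sq (a : K) : up a * up a = 1 := by
  rw [← up_add, CharTwo.add_self_eq_zero]
  exact map_one upperHom

theorem lo_sq (a : K) : lo a * lo a = 1 := by
  apply Subtype.ext
  simp only [Matrix.SpecialLinearGroup.coe_mul, lo_coe, Matrix.SpecialLinearGroup.coe_one]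
  ext i j
  fin_cases i <;> fin_cases j <;>
    simp [Matrix.mul_apply, Fin.sum_univ_two, CharTwo.add_self_eq_zero]

theorem up_lo_cube {a : K} (ha : a ≠ 0) : (up a * lo a⁻¹) ^ 3 = 1 := by
  rw [pow_succ, pow_two, up_lo_sq ha,
    show lo a⁻¹ * up a * (up a * lo a⁻¹) = lo a⁻¹ * (up a * up a) * lo a⁻¹ by simp [mul_assoc],
    up_sq, mul_one, lo_sq]

theorem lo_eq_wm (b : K) : lo b = wm * up b * wm := by
  apply Subtype.ext
  simp only [Matrix.SpecialLinearGroup.coe_mul, up_coe, lo_coe, wm_coe]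
  ext i j
  fin_cases i <;> fin_cases j <;>
    simp [Matrix.mul_apply, Fin.sum_univ_two, CharTwo.neg_eq]

theorem wm_eq : (wm : SL(2, K)) = up 1 * lo 1 * up 1 := by
  apply Subtype.ext
  simp only [Matrix.SpecialLinearGroup.coe_mul, up_coe, lo_coe, wm_coe]
  ext i j
  fin_cases i <;> fin_cases j <;>
    simp [Matrix.mul_apply, Fin.sum_univ_two, CharTwo.neg_eq, CharTwo.add_self_eq_zero]

theorem dm_eq {c : K} (hc : c ≠ 0) : dm c hc = up c * lo c⁻¹ * up c * wm := by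
  apply Subtype.ext
  simp only [Matrix.SpecialLinearGroup.coe_mul, up_coe, lo_coe, wm_coe, dm_coe]
  ext i j
  fin_cases i <;> fin_cases j <;>
    simp [Matrix.mul_apply, Fin.sum_univ_two, hc, CharTwo.neg_eq, CharTwo.add_self_eq_zero]

theorem dm_up {c : K} (hc : c ≠ 0) (d : K) : dm c hc * up d = up (c ^ 2 * d) * dm c hc := by
  apply Subtype.ext
  simp only [Matrix.SpecialLinearGroup.coe_mul, up_coe, dm_coe]
  ext i j
  fin_cases i <;> fin_cases j <;> simp [Matrix.mul_apply, Fin.sum_univ_two] <;> field_simp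

theorem dm_mul {c d : K} (hc : c ≠ 0) (hd : d ≠ 0) :
    dm c hc * dm d hd = dm (c * d) (mul_ne_zero hc hd) := by
  apply Subtype.ext
  simp only [Matrix.SpecialLinearGroup.coe_mul, dm_coe]
  ext i j
  fin_cases i <;> fin_cases j <;> simp [Matrix.mul_apply, Fin.sum_univ_two, mul_comm]

theorem dm_mul_inv {c : K} (hc : c ≠ 0) : dm c hc * dm c⁻¹ (inv_ne_zero hc) = 1 := by
  apply Subtype.ext
  simp only [Matrix.SpecialLinearGroup.coe_mul, dm_coe, Matrix.SpecialLinearGroup.coe_one]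
  ext i j
  fin_cases i <;> fin_cases j <;> simp [Matrix.mul_apply, Fin.sum_univ_two, hc]

end Matrices

/-- Coordinates showing that a module is a sum of natural modules. -/
structure Coords (ρ : SL(2, K) →* AddMonoid.End M) where
  W : Type u
  [instAdd : AddCommGroup W]
  [instModule : Module K W]
  Φ : (W × W) ≃+ M
  up_apply : ∀ (c : K) (a b : W), ρ (up c) (Φ (a, b)) = Φ (a + c • b, b)
  wm_apply : ∀ a b : W, ρ wm (Φ (a, b)) = Φ (b, a)
  dm_apply : ∀ (c : K) (hc : c ≠ 0) (a b : W), ρ (dm c hc) (Φ (a, b)) = Φ (c • a, c⁻¹ • b)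

attribute [instance] Coords.instAdd Coords.instModule

/-- The hypotheses: exponent two, and every element of order three has no fixed points. -/
structure Fpf (ρ : SL(2, K) →* AddMonoid.End M) : Prop where
  two : ∀ v : M, v + v = 0
  three : ∀ g : SL(2, K), g ^ 3 = 1 → g ≠ 1 → ρ g * ρ g + ρ g + 1 = 0

variable {ρ : SL(2, K) →* AddMonoid.End M}

/-- `ρ(up c) + 1`. -/
def opA (ρ : SL(2, K) →* AddMonoid.End M) (c : K) : AddMonoid.End M := ρ (up c) + 1

/-- `ρ(lo c) + 1`. -/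
def opB (ρ : SL(2, K) →* AddMonoid.End M) (c : K) : AddMonoid.End M := ρ (lo c) + 1

section Units

variable (ρ)

/-- The entries with respect to the matrix units, inside the corner at `A B`. -/
def p11 (X : AddMonoid.End M) : AddMonoid.End M := opA ρ 1 * opB ρ 1 * X * (opA ρ 1 * opB ρ 1)
def p12 (X : AddMonoid.End M) : AddMonoid.End M := opA ρ 1 * opB ρ 1 * X * opB ρ 1
def p21 (X : AddMonoid.End M) : AddMonoid.End M := opA ρ 1 * X * (opA ρ 1 * opB ρ 1)
def p22 (X : AddMonoid.End M) : AddMonoid.End M := opA ρ 1 * X * opB ρ 1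

/-- The diagonal entry of `opA c`. -/
def al (c : K) : AddMonoid.End M := p22 ρ (opA ρ c)

/-- The upper entry of `opA c`. -/
def be (c : K) : AddMonoid.End M := p12 ρ (opA ρ c)

end Units

theorem Fpf.self_add (h : Fpf ρ) (X : AddMonoid.End M) : X + X = 0 :=
  AddMonoidHom.ext fun m => h.two (X m)

theorem Fpf.eq_of_add (h : Fpf ρ) {X Y : AddMonoid.End M} (e : X + Y = 0) : X = Y := by
  rw [← add_zero X, ← h.self_add Y, ← add_assoc, e, zero_add]

theorem Fpf.rho_up (h : Fpf ρ) (c : K) : ρ (up c) = 1 + opA ρ c := by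
  rw [opA, add_comm (ρ (up c)), ← add_assoc, h.self_add, zero_add]

theorem Fpf.rho_lo (h : Fpf ρ) (c : K) : ρ (lo c) = 1 + opB ρ c := by
  rw [opB, add_comm (ρ (lo c)), ← add_assoc, h.self_add, zero_add]

theorem opA_comm (c d : K) : opA ρ c * opA ρ d = opA ρ d * opA ρ c := by
  have : ρ (up c) * ρ (up d) = ρ (up d) * ρ (up c) := by
    rw [← map_mul, ← map_mul, ← up_add, ← up_add, add_comm]
  simp only [opA, mul_add, add_mul, mul_one, one_mul, this]
  abel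

theorem Fpf.opA_sq (h : Fpf ρ) (c : K) : opA ρ c * opA ρ c = 0 := by
  have : ρ (up c) * ρ (up c) = 1 := by rw [← map_mul, up_sq, map_one]
  simp only [opA, mul_add, add_mul, mul_one, one_mul, this]
  rw [show (1 : AddMonoid.End M) + ρ (up c) + (ρ (up c) + 1) =
    (1 + 1) + (ρ (up c) + ρ (up c)) by abel, h.self_add, h.self_add, add_zero]

theorem Fpf.opB_sq (h : Fpf ρ) (c : K) : opB ρ c * opB ρ c = 0 := by
  have : ρ (lo c) * ρ (lo c) = 1 := by rw [← map_mul, lo_sq, map_one]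
  simp only [opB, mul_add, add_mul, mul_one, one_mul, this]
  rw [show (1 : AddMonoid.End M) + ρ (lo c) + (ρ (lo c) + 1) =
    (1 + 1) + (ρ (lo c) + ρ (lo c)) by abel, h.self_add, h.self_add, add_zero]

theorem Fpf.opA_opB (h : Fpf ρ) {c : K} (hc : c ≠ 0) :
    opA ρ c * opB ρ c⁻¹ + opB ρ c⁻¹ * opA ρ c = 1 := by
  have h3 := h.three _ (up_lo_cube hc) (up_lo_ne_one hc)
  rw [← map_mul, up_lo_sq hc, map_mul, map_mul, h.rho_up, h.rho_lo] at h3
  apply h.eq_of_add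
  rw [← h3, show (1 + opB ρ c⁻¹) * (1 + opA ρ c) + (1 + opA ρ c) * (1 + opB ρ c⁻¹) + 1 =
    opA ρ c * opB ρ c⁻¹ + opB ρ c⁻¹ * opA ρ c + 1 + ((1 + 1) + (opA ρ c + opA ρ c) +
      (opB ρ c⁻¹ + opB ρ c⁻¹)) by noncomm_ring]
  simp only [h.self_add, add_zero]

theorem Fpf.unit_one (h : Fpf ρ) : opA ρ 1 * opB ρ 1 + opB ρ 1 * opA ρ 1 = 1 := by
  have := h.opA_opB (c := 1) one_ne_zero
  rwa [inv_one] at this

theorem Fpf.aba (h : Fpf ρ) {c : K} (hc : c ≠ 0) :
    opA ρ c * opB ρ c⁻¹ * opA ρ c = opA ρ c := by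
  have := congrArg (opA ρ c * ·) (h.opA_opB hc)
  simp only [mul_add, ← mul_assoc, h.opA_sq, zero_mul, zero_add, mul_one] at this
  exact this

theorem Fpf.bab (h : Fpf ρ) : opB ρ 1 * opA ρ 1 * opB ρ 1 = opB ρ 1 := by
  have := congrArg (opB ρ 1 * ·) h.unit_one
  simp only [mul_add, ← mul_assoc, h.opB_sq, zero_mul, add_zero, mul_one] at this
  exact this

theorem Fpf.aba_one (h : Fpf ρ) : opA ρ 1 * opB ρ 1 * opA ρ 1 = opA ρ 1 := by
  have := h.aba (c := 1) one_ne_zero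
  rwa [inv_one] at this

theorem Fpf.rho_wc (h : Fpf ρ) {c : K} (hc : c ≠ 0) :
    ρ (up c * lo c⁻¹ * up c) = opA ρ c + opB ρ c⁻¹ := by
  rw [map_mul, map_mul, h.rho_up, h.rho_lo,
    show (1 + opA ρ c) * (1 + opB ρ c⁻¹) * (1 + opA ρ c) =
      1 + (opA ρ c + opA ρ c) + opA ρ c * opA ρ c + opB ρ c⁻¹ +
        (opA ρ c * opB ρ c⁻¹ + opB ρ c⁻¹ * opA ρ c) + opA ρ c * opB ρ c⁻¹ * opA ρ c by noncomm_ring,
    h.self_add, h.opA_sq, h.opA_opB hc, h.aba hc, add_zero, add_zero]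
  rw [show (1 : AddMonoid.End M) + opB ρ c⁻¹ + 1 + opA ρ c = (1 + 1) + (opA ρ c + opB ρ c⁻¹) by abel,
    h.self_add, zero_add]

theorem Fpf.rho_wm (h : Fpf ρ) : ρ wm = opA ρ 1 + opB ρ 1 := by
  have := h.rho_wc (c := 1) one_ne_zero
  rw [inv_one, ← wm_eq] at this
  exact this

theorem Fpf.unit_sq (h : Fpf ρ) :
    opA ρ 1 * opB ρ 1 * (opA ρ 1 * opB ρ 1) = opA ρ 1 * opB ρ 1 := by
  rw [← mul_assoc, h.aba_one]

section Products

variable (h : Fpf ρ) (X Y : AddMonoid.End M)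
include h

theorem mul_aux (L R : AddMonoid.End M) :
    L * (X * Y) * R = L * X * (opA ρ 1 * opB ρ 1) * (opA ρ 1 * opB ρ 1 * Y * R) +
      L * X * opB ρ 1 * (opA ρ 1 * Y * R) := by
  calc L * (X * Y) * R = L * X * (opA ρ 1 * opB ρ 1 * (opA ρ 1 * opB ρ 1) + opB ρ 1 * opA ρ 1) * Y * R := by
        rw [h.unit_sq, h.unit_one]; noncomm_ring
    _ = _ := by noncomm_ring

theorem p11_mul : p11 ρ (X * Y) = p11 ρ X * p11 ρ Y + p12 ρ X * p21 ρ Y := mul_aux h X Y _ _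
theorem p12_mul : p12 ρ (X * Y) = p11 ρ X * p12 ρ Y + p12 ρ X * p22 ρ Y := mul_aux h X Y _ _
theorem p21_mul : p21 ρ (X * Y) = p21 ρ X * p11 ρ Y + p22 ρ X * p21 ρ Y := mul_aux h X Y _ _
theorem p22_mul : p22 ρ (X * Y) = p21 ρ X * p12 ρ Y + p22 ρ X * p22 ρ Y := mul_aux h X Y _ _

theorem reconstruct : X = p11 ρ X + p12 ρ X * opA ρ 1 + opB ρ 1 * p21 ρ X +
    opB ρ 1 * p22 ρ X * opA ρ 1 := by
  calc X = (opA ρ 1 * opB ρ 1 + opB ρ 1 * opA ρ 1) * X *
        (opA ρ 1 * opB ρ 1 + opB ρ 1 * opA ρ 1) := by rw [h.unit_one, one_mul, mul_one]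
    _ = _ := by simp only [p11, p12, p21, p22]; noncomm_ring

end Products

theorem p11_add (X Y : AddMonoid.End M) : p11 ρ (X + Y) = p11 ρ X + p11 ρ Y := by
  simp only [p11, mul_add, add_mul]
theorem p12_add (X Y : AddMonoid.End M) : p12 ρ (X + Y) = p12 ρ X + p12 ρ Y := by
  simp only [p12, mul_add, add_mul]
theorem p21_add (X Y : AddMonoid.End M) : p21 ρ (X + Y) = p21 ρ X + p21 ρ Y := by
  simp only [p21, mul_add, add_mul]
theorem p22_add (X Y : AddMonoid.End M) : p22 ρ (X + Y) = p22 ρ X + p22 ρ Y := by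
  simp only [p22, mul_add, add_mul]

section Entries

variable (h : Fpf ρ)
include h

theorem p21_opA (c : K) : p21 ρ (opA ρ c) = 0 := by
  rw [p21, opA_comm 1 c, mul_assoc, ← mul_assoc (opA ρ 1), h.opA_sq, zero_mul, mul_zero]

theorem p11_opA (c : K) : p11 ρ (opA ρ c) = al ρ c := by
  rw [p11, al, p22]
  calc opA ρ 1 * opB ρ 1 * opA ρ c * (opA ρ 1 * opB ρ 1)
      = opA ρ 1 * opB ρ 1 * (opA ρ c * opA ρ 1) * opB ρ 1 := by noncomm_ring
    _ = opA ρ 1 * opB ρ 1 * opA ρ 1 * opA ρ c * opB ρ 1 := by rw [opA_comm c 1]; noncomm_ring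
    _ = _ := by rw [h.aba_one]

theorem p22_one : p22 ρ (1 : AddMonoid.End M) = opA ρ 1 * opB ρ 1 := by rw [p22, mul_one]

theorem p11_one : p11 ρ (1 : AddMonoid.End M) = opA ρ 1 * opB ρ 1 := by rw [p11, mul_one, h.unit_sq]

theorem p12_one : p12 ρ (1 : AddMonoid.End M) = 0 := by
  rw [p12, mul_one, mul_assoc, h.opB_sq, mul_zero]

theorem p21_one : p21 ρ (1 : AddMonoid.End M) = 0 := by
  rw [p21, mul_one, ← mul_assoc, h.opA_sq, zero_mul]

theorem p11_wm : p11 ρ (ρ wm) = 0 := by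
  rw [h.rho_wm, p11]
  calc opA ρ 1 * opB ρ 1 * (opA ρ 1 + opB ρ 1) * (opA ρ 1 * opB ρ 1)
      = opA ρ 1 * opB ρ 1 * (opA ρ 1 * opA ρ 1) * opB ρ 1 +
          opA ρ 1 * (opB ρ 1 * opB ρ 1) * (opA ρ 1 * opB ρ 1) := by noncomm_ring
    _ = 0 := by rw [h.opA_sq, h.opB_sq]; simp

theorem p12_wm : p12 ρ (ρ wm) = opA ρ 1 * opB ρ 1 := by
  rw [h.rho_wm, p12]
  calc opA ρ 1 * opB ρ 1 * (opA ρ 1 + opB ρ 1) * opB ρ 1
      = opA ρ 1 * opB ρ 1 * opA ρ 1 * opB ρ 1 +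
          opA ρ 1 * opB ρ 1 * (opB ρ 1 * opB ρ 1) := by noncomm_ring
    _ = _ := by rw [h.aba_one, h.opB_sq]; simp

theorem p21_wm : p21 ρ (ρ wm) = opA ρ 1 * opB ρ 1 := by
  rw [h.rho_wm, p21]
  calc opA ρ 1 * (opA ρ 1 + opB ρ 1) * (opA ρ 1 * opB ρ 1)
      = opA ρ 1 * opA ρ 1 * (opA ρ 1 * opB ρ 1) +
          opA ρ 1 * opB ρ 1 * opA ρ 1 * opB ρ 1 := by noncomm_ring
    _ = _ := by rw [h.aba_one, h.opA_sq]; simp

theorem p22_wm : p22 ρ (ρ wm) = 0 := by
  rw [h.rho_wm, p22]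
  calc opA ρ 1 * (opA ρ 1 + opB ρ 1) * opB ρ 1
      = opA ρ 1 * opA ρ 1 * opB ρ 1 + opA ρ 1 * (opB ρ 1 * opB ρ 1) := by noncomm_ring
    _ = 0 := by rw [h.opA_sq, h.opB_sq]; simp

theorem unit_mul_p1 (X : AddMonoid.End M) :
    opA ρ 1 * opB ρ 1 * p11 ρ X = p11 ρ X ∧ opA ρ 1 * opB ρ 1 * p12 ρ X = p12 ρ X ∧
      opA ρ 1 * opB ρ 1 * p21 ρ X = p21 ρ X ∧ opA ρ 1 * opB ρ 1 * p22 ρ X = p22 ρ X := by
  refine ⟨?_, ?_, ?_, ?_⟩ <;>
    simp only [p11, p12, p21, p22, ← mul_assoc, h.aba_one]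

theorem p_mul_unit (X : AddMonoid.End M) :
    p11 ρ X * (opA ρ 1 * opB ρ 1) = p11 ρ X ∧ p12 ρ X * (opA ρ 1 * opB ρ 1) = p12 ρ X ∧
      p21 ρ X * (opA ρ 1 * opB ρ 1) = p21 ρ X ∧ p22 ρ X * (opA ρ 1 * opB ρ 1) = p22 ρ X := by
  refine ⟨?_, ?_, ?_, ?_⟩ <;>
    simp only [p11, p12, p21, p22, mul_assoc] <;>
    simp only [← mul_assoc (opB ρ 1) (opA ρ 1) (opB ρ 1), h.bab]

/-- Conjugation by `wm` reverses the entries. -/
theorem p_conj_wm (X : AddMonoid.End M) :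
    p11 ρ (ρ wm * X * ρ wm) = p22 ρ X ∧ p12 ρ (ρ wm * X * ρ wm) = p21 ρ X ∧
      p21 ρ (ρ wm * X * ρ wm) = p12 ρ X ∧ p22 ρ (ρ wm * X * ρ wm) = p11 ρ X := by
  obtain ⟨a, b, c, d⟩ := unit_mul_p1 h X
  obtain ⟨a', b', c', d'⟩ := p_mul_unit h X
  refine ⟨?_, ?_, ?_, ?_⟩ <;>
    simp only [p11_mul h, p12_mul h, p21_mul h, p22_mul h, p11_wm h, p12_wm h, p21_wm h, p22_wm h,
      zero_mul, mul_zero, zero_add, add_zero, a, b, c, d, a', b', c', d']

theorem p_opB (c : K) : p11 ρ (opB ρ c) = al ρ c ∧ p12 ρ (opB ρ c) = 0 ∧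
    p21 ρ (opB ρ c) = be ρ c ∧ p22 ρ (opB ρ c) = al ρ c := by
  have e : opB ρ c = ρ wm * opA ρ c * ρ wm := by
    have hw : ρ (wm : SL(2, K)) * ρ wm = 1 := by
      rw [← map_mul, wm_mul_self, show (-1 : SL(2, K)) = 1 from Subtype.ext (by
        rw [Matrix.SpecialLinearGroup.coe_neg, Matrix.SpecialLinearGroup.coe_one]
        ext i j
        simp [CharTwo.neg_eq]), map_one]
    rw [opB, opA, lo_eq_wm, map_mul, map_mul, mul_add, add_mul, mul_one, hw]
  obtain ⟨a, b, c', d⟩ := p_conj_wm h (opA ρ c)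
  rw [e]
  exact ⟨a, b.trans (p21_opA h c), c', d.trans (p11_opA h c)⟩

theorem al_be_comm' {c : K} (hc : c ≠ 0) : al ρ c * be ρ c⁻¹ = be ρ c⁻¹ * al ρ c := by
  have := congrArg (p21 ρ) (h.opA_opB hc)
  obtain ⟨b1, -, b3, b4⟩ := p_opB h c⁻¹
  rw [p21_add, p21_mul h, p21_mul h, p21_opA h, p21_one h, p11_opA h, b3, ← al, b4] at this
  simp only [zero_mul, zero_add, mul_zero, add_zero] at this
  exact h.eq_of_add this

/-- The entries of a diagonal element. -/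
theorem p_dm {c : K} (hc : c ≠ 0) :
    p11 ρ (ρ (dm c hc)) = be ρ c ∧ p12 ρ (ρ (dm c hc)) = al ρ c + al ρ c⁻¹ ∧
      p21 ρ (ρ (dm c hc)) = al ρ c + al ρ c⁻¹ ∧ p22 ρ (ρ (dm c hc)) = be ρ c⁻¹ := by
  obtain ⟨b1, b2, b3, b4⟩ := p_opB h c⁻¹
  obtain ⟨a1', a2', a3', a4'⟩ := p_mul_unit h (opA ρ c)
  obtain ⟨c1', c2', c3', c4'⟩ := p_mul_unit h (opB ρ c⁻¹)
  rw [dm_eq, map_mul, h.rho_wc hc]
  refine ⟨?_, ?_, ?_, ?_⟩ <;>
    simp only [p11_mul h, p12_mul h, p21_mul h, p22_mul h, p11_wm h, p12_wm h, p21_wm h, p22_wm h,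
      p11_add, p12_add, p21_add, p22_add, zero_mul, mul_zero, zero_add, add_zero, add_mul,
      a1', a2', a3', a4', c1', c2', c3', c4']
  · rw [b2, add_zero]; rfl
  · rw [p11_opA h, b1]
  · rw [b4]; rfl
  · rw [p21_opA h, b3, zero_add]

theorem be_dm {c : K} (hc : c ≠ 0) :
    al ρ (c ^ 2) * (al ρ c + al ρ c⁻¹) = 0 ∧
      be ρ (c ^ 2) * be ρ c⁻¹ = be ρ c ∧ al ρ (c ^ 2) * be ρ c⁻¹ = al ρ c + al ρ c⁻¹ := by
  have e : ρ (dm c hc) * opA ρ 1 = opA ρ (c ^ 2) * ρ (dm c hc) := by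
    simp only [opA, mul_add, add_mul, one_mul, mul_one, ← map_mul, dm_up, mul_one]
  obtain ⟨d1, d2, d3, d4⟩ := p_dm h hc
  have a12 : p12 ρ (opA ρ 1) = opA ρ 1 * opB ρ 1 := by
    rw [p12, h.aba_one]
  have a22 : p22 ρ (opA ρ 1) = 0 := by rw [p22, h.opA_sq, zero_mul]
  obtain ⟨u1, u2, u3, u4⟩ := p_mul_unit h (ρ (dm c hc))
  have e21 := congrArg (p21 ρ) e
  rw [p21_mul h, p21_mul h, p21_opA h, p21_opA h, p11_opA h 1, al, a22, d3] at e21
  simp only [mul_zero, zero_mul, add_zero, zero_add] at e21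
  have e12 := congrArg (p12 ρ) e
  rw [p12_mul h, p12_mul h, a12, u1, a22, mul_zero, add_zero, d1, d2, d4, p11_opA h, ← be] at e12
  have e22 := congrArg (p22 ρ) e
  rw [p22_mul h, p22_mul h, a12, u3, a22, mul_zero, add_zero, p21_opA h, zero_mul, zero_add, d3,
    d4, ← al] at e22
  rw [← al] at e21
  exact ⟨e21.symm, by rw [← e21, zero_add] at e12; exact e12.symm, e22.symm⟩

theorem unit_be (c : K) : opA ρ 1 * opB ρ 1 * be ρ c = be ρ c := (unit_mul_p1 h _).2.1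
theorem be_unit (c : K) : be ρ c * (opA ρ 1 * opB ρ 1) = be ρ c := (p_mul_unit h _).2.1
theorem unit_al (c : K) : opA ρ 1 * opB ρ 1 * al ρ c = al ρ c := (unit_mul_p1 h _).2.2.2
theorem al_unit (c : K) : al ρ c * (opA ρ 1 * opB ρ 1) = al ρ c := (p_mul_unit h _).2.2.2

theorem be_inv {c : K} (hc : c ≠ 0) : be ρ c * be ρ c⁻¹ = opA ρ 1 * opB ρ 1 := by
  have e : ρ (dm c hc) * ρ (dm c⁻¹ (inv_ne_zero hc)) = 1 := by rw [← map_mul, dm_mul_inv, map_one]
  have e' : ρ (dm c⁻¹ (inv_ne_zero hc)) * ρ (dm c⁻¹⁻¹ (inv_ne_zero (inv_ne_zero hc))) = 1 := by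
    rw [← map_mul, dm_mul_inv, map_one]
  obtain ⟨d1, d2, -, -⟩ := p_dm h hc
  obtain ⟨f1, f2, f3, f4⟩ := p_dm h (inv_ne_zero hc)
  rw [inv_inv, add_comm (al ρ c⁻¹)] at f2 f3
  rw [inv_inv] at f4
  have e12 := congrArg (p12 ρ) e
  rw [p12_mul h, p12_one h, d1, d2, f2, f4] at e12
  have e11 := congrArg (p11 ρ) e
  rw [p11_mul h, p11_one h, d1, d2, f1, f3] at e11
  obtain ⟨q1, q2, q3⟩ := be_dm h hc
  have hcm : be ρ c⁻¹ * (al ρ c + al ρ c⁻¹) = (al ρ c + al ρ c⁻¹) * be ρ c⁻¹ := by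
    have g12 := congrArg (p12 ρ) e'
    obtain ⟨g1, g2, g3, g4⟩ := p_dm h (inv_ne_zero (inv_ne_zero hc))
    rw [p12_mul h, p12_one h, f1, f2, g2, g4] at g12
    simp only [inv_inv] at g12
    exact h.eq_of_add g12
  have hsq : (al ρ c + al ρ c⁻¹) * (al ρ c + al ρ c⁻¹) = 0 := by
    conv_lhs => arg 1; rw [← q3]
    rw [mul_assoc, hcm, ← mul_assoc, q1, zero_mul]
  rwa [hsq, add_zero] at e11

theorem be_sq {c : K} (hc : c ≠ 0) : be ρ (c ^ 2) = be ρ c * be ρ c := by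
  calc be ρ (c ^ 2) = be ρ (c ^ 2) * (be ρ c⁻¹ * be ρ c) := by
        have := be_inv h (inv_ne_zero hc)
        rw [inv_inv] at this
        rw [this, be_unit h]
    _ = be ρ c * be ρ c := by rw [← mul_assoc, (be_dm h hc).2.1]

theorem be_iter {c : K} (hc : c ≠ 0) (k : ℕ) : be ρ (c ^ 2 ^ k) = be ρ c ^ 2 ^ k := by
  induction k with
  | zero => simp
  | succ k ih => rw [pow_succ, pow_mul, pow_mul, be_sq h (pow_ne_zero _ hc), ih, pow_two]

theorem al_be_comm {c : K} (hc : c ≠ 0) : Commute (al ρ c) (be ρ c) := by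
  have h1 := al_be_comm' h hc
  have h2 : be ρ c⁻¹ * be ρ c = opA ρ 1 * opB ρ 1 := by
    have := be_inv h (inv_ne_zero hc)
    rwa [inv_inv] at this
  show al ρ c * be ρ c = be ρ c * al ρ c
  calc al ρ c * be ρ c = opA ρ 1 * opB ρ 1 * al ρ c * be ρ c := by rw [unit_al h]
    _ = be ρ c * (be ρ c⁻¹ * al ρ c) * be ρ c := by rw [← be_inv h hc]; noncomm_ring
    _ = be ρ c * (al ρ c * be ρ c⁻¹) * be ρ c := by rw [h1]
    _ = be ρ c * al ρ c * (be ρ c⁻¹ * be ρ c) := by noncomm_ring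
    _ = be ρ c * al ρ c := by rw [h2, mul_assoc, al_unit h]

/-- The key relation. -/
theorem al_sq {c : K} (hc : c ≠ 0) : al ρ (c ^ 2) = al ρ c + be ρ c * al ρ c := by
  haveI := Fintype.ofFinite K
  obtain ⟨n, hn2, hn⟩ := FiniteField.card K 2
  have hsurj : ∃ d : K, d ≠ 0 ∧ c = d ^ 2 := by
    obtain ⟨d, hd⟩ := surjective_frobenius K 2 c
    rw [frobenius_def] at hd
    exact ⟨d, fun e => hc (by rw [← hd, e]; simp), hd.symm⟩
  obtain ⟨d, hd0, rfl⟩ := hsurj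
  obtain ⟨d1, d2, d3, d4⟩ := p_dm h hd0
  have e : ρ (dm d hd0) * opA ρ (d ^ 2) = opA ρ ((d ^ 2) ^ 2) * ρ (dm d hd0) := by
    simp only [opA, mul_add, add_mul, one_mul, mul_one, ← map_mul, dm_up, pow_two]
  have e11 := congrArg (p11 ρ) e
  rw [p11_mul h, p11_mul h, p21_opA h, mul_zero, add_zero, p11_opA h, p11_opA h, d1, d3, ← be]
    at e11
  set a := al ρ (d ^ 2)
  set b := be ρ d
  set b' := be ρ d⁻¹
  obtain ⟨-, -, q3⟩ := be_dm h hd0
  have hcom : Commute a b := by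
    have h1 : Commute a (be ρ (d ^ 2)) := al_be_comm h hc
    have h2 : b = be ρ (d ^ 2) ^ 2 ^ ((n : ℕ) - 1) := by
      rw [← be_iter h hc, ← pow_mul, ← pow_succ']
      rw [show (n : ℕ) - 1 + 1 = (n : ℕ) from Nat.sub_add_cancel n.pos, ← hn, FiniteField.pow_card]
    rw [h2]
    exact h1.pow_right _
  have hbb : b * b' = opA ρ 1 * opB ρ 1 := be_inv h hd0
  have hb'b : b' * b = opA ρ 1 * opB ρ 1 := by
    have := be_inv h (inv_ne_zero hd0)
    rwa [inv_inv] at this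
  have hbe4 : be ρ ((d ^ 2) ^ 2) = b * b * (b * b) := by rw [be_sq h hc, be_sq h hd0]
  have hkey : b * a * b' = al ρ ((d ^ 2) ^ 2) + b * b * (b * b) * a * (b' * b') := by
    rw [e11, ← q3, hbe4, add_mul, mul_assoc _ b b', hbb, al_unit h]
    congr 1
  have hab : b * a * b' = a := by
    rw [← hcom.eq, mul_assoc, hbb]; exact al_unit h _
  have hcom2 : Commute a (b * b) := hcom.mul_right hcom
  have hbb2 : b * b * (b' * b') = opA ρ 1 * opB ρ 1 := by
    calc b * b * (b' * b') = b * (b * b') * b' := by noncomm_ring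
      _ = _ := by rw [hbb, show b * (opA ρ 1 * opB ρ 1) = b from be_unit h d, hbb]
  have hlast : b * b * (b * b) * a * (b' * b') = b * b * a := by
    calc b * b * (b * b) * a * (b' * b') = b * b * ((b * b) * a) * (b' * b') := by noncomm_ring
      _ = b * b * (a * (b * b)) * (b' * b') := by rw [hcom2.eq]
      _ = b * b * a * (b * b * (b' * b')) := by noncomm_ring
      _ = _ := by rw [hbb2, mul_assoc, al_unit h]
  rw [hab, hlast, ← be_sq h hd0] at hkey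
  calc al ρ ((d ^ 2) ^ 2) = al ρ ((d ^ 2) ^ 2) + (be ρ (d ^ 2) * a + be ρ (d ^ 2) * a) := by
        rw [h.self_add, add_zero]
    _ = a + be ρ (d ^ 2) * a := by rw [← add_assoc, ← hkey]

theorem al_eq_zero (c : K) : al ρ c = 0 := by
  have h1 : al ρ (1 : K) = 0 := by rw [al, p22, h.opA_sq, zero_mul]
  have hadd : ∀ x : K, opA ρ (x + 1) = opA ρ x + opA ρ 1 + opA ρ x * opA ρ 1 := fun x => by
    apply h.eq_of_add
    rw [opA, up_add, map_mul, h.rho_up x, h.rho_up 1,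
      show (1 + opA ρ x) * (1 + opA ρ 1) + 1 + (opA ρ x + opA ρ 1 + opA ρ x * opA ρ 1) =
        (1 + 1) + (opA ρ x + opA ρ x) + (opA ρ 1 + opA ρ 1) +
          (opA ρ x * opA ρ 1 + opA ρ x * opA ρ 1) by noncomm_ring]
    simp only [h.self_add, add_zero]
  have hA22 : p22 ρ (opA ρ 1) = 0 := h1
  have hshift : ∀ x : K, al ρ (x + 1) = al ρ x := fun x => by
    show p22 ρ (opA ρ (x + 1)) = _
    rw [hadd, p22_add, p22_add, p22_mul h, hA22, p21_opA h, zero_mul, mul_zero, add_zero, add_zero,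
      add_zero]
    rfl
  rcases eq_or_ne c 0 with rfl | hc
  · have := hshift 0
    rw [zero_add, h1] at this
    exact this.symm
  rcases eq_or_ne c 1 with rfl | hc1
  · exact h1
  have hf : c + 1 ≠ 0 := fun e => hc1 (CharTwo.add_eq_zero.mp e)
  have hsq : al ρ c * al ρ c = 0 := by
    have := congrArg (p22 ρ) (h.opA_sq c)
    rwa [p22_mul h, p21_opA h, zero_mul, zero_add, ← al, p22, mul_zero, zero_mul] at this
  have hbef : be ρ (c + 1) = be ρ c + opA ρ 1 * opB ρ 1 + al ρ c := by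
    show p12 ρ (opA ρ (c + 1)) = _
    have a12 : p12 ρ (opA ρ 1) = opA ρ 1 * opB ρ 1 := by rw [p12, h.aba_one]
    rw [hadd, p12_add, p12_add, p12_mul h, a12, hA22, mul_zero, add_zero, p11_opA h, al_unit h]
    rfl
  have e := al_sq h hf
  rw [CharTwo.add_sq, one_pow, hshift, hshift, al_sq h hc, hbef, add_mul, add_mul, unit_al h, hsq,
    add_zero] at e
  have e' := congrArg (fun X => be ρ c * al ρ c + al ρ c + X) e
  rw [show be ρ c * al ρ c + al ρ c + (al ρ c + be ρ c * al ρ c) =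
    (al ρ c + al ρ c) + (be ρ c * al ρ c + be ρ c * al ρ c) by abel,
    show be ρ c * al ρ c + al ρ c + (al ρ c + (be ρ c * al ρ c + al ρ c)) =
    (al ρ c + al ρ c) + (be ρ c * al ρ c + be ρ c * al ρ c) + al ρ c by abel] at e'
  simp only [h.self_add, add_zero, zero_add] at e'
  exact e'.symm

theorem opA_eq (c : K) : opA ρ c = be ρ c * opA ρ 1 := by
  conv_lhs => rw [reconstruct h (opA ρ c)]
  rw [p11_opA h, p21_opA h, ← al, ← be, al_eq_zero h]
  simp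

theorem opA_one_be (c : K) : opA ρ 1 * be ρ c = 0 := by
  rw [be, p12, ← mul_assoc, ← mul_assoc, ← mul_assoc, h.opA_sq, zero_mul, zero_mul, zero_mul]

theorem be_add (c d : K) : be ρ (c + d) = be ρ c + be ρ d := by
  have hz : opA ρ c * opA ρ d = 0 := by
    rw [opA_eq h c, opA_eq h d, mul_assoc, ← mul_assoc (opA ρ 1), opA_one_be h, zero_mul, mul_zero]
  have : opA ρ (c + d) = opA ρ c + opA ρ d := by
    apply h.eq_of_add
    rw [opA, up_add, map_mul, h.rho_up c, h.rho_up d,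
      show (1 + opA ρ c) * (1 + opA ρ d) + 1 + (opA ρ c + opA ρ d) =
        (1 + 1) + (opA ρ c + opA ρ c) + (opA ρ d + opA ρ d) + opA ρ c * opA ρ d by noncomm_ring,
      hz]
    simp only [h.self_add, add_zero]
  rw [be, this, p12_add]
  rfl

theorem be_zero : be ρ (0 : K) = 0 := by
  have := be_add h (0 : K) 0
  rw [add_zero, h.self_add] at this
  exact this

theorem be_one : be ρ (1 : K) = opA ρ 1 * opB ρ 1 := by rw [be, p12, h.aba_one]

theorem be_mul (c d : K) : be ρ (c * d) = be ρ c * be ρ d := by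
  rcases eq_or_ne c 0 with rfl | hc
  · rw [zero_mul, be_zero h, zero_mul]
  rcases eq_or_ne d 0 with rfl | hd
  · rw [mul_zero, be_zero h, mul_zero]
  have := congrArg (p11 ρ) (map_mul ρ (dm c hc) (dm d hd))
  rw [dm_mul, p11_mul h, (p_dm h _).1, (p_dm h hc).1, (p_dm h hd).1, (p_dm h hc).2.1,
    al_eq_zero h, al_eq_zero h, add_zero, zero_mul, add_zero] at this
  exact this

theorem rho_dm {c : K} (hc : c ≠ 0) :
    ρ (dm c hc) = be ρ c + opB ρ 1 * be ρ c⁻¹ * opA ρ 1 := by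
  obtain ⟨d1, d2, d3, d4⟩ := p_dm h hc
  conv_lhs => rw [reconstruct h (ρ (dm c hc)), d1, d2, d3, d4, al_eq_zero h, al_eq_zero h]
  simp

end Entries

/-- **The module is a sum of natural modules.** -/
theorem Fpf.nonempty_coords (h : Fpf ρ) : Nonempty (Coords ρ) := by
  let W : AddSubgroup M := (opA ρ 1).ker
  have hW : ∀ m : M, m ∈ W ↔ opA ρ 1 m = 0 := fun m => AddMonoidHom.mem_ker
  have hmem : ∀ (c : K) (m : M), be ρ c m ∈ W := fun c m =>
    (hW _).mpr (DFunLike.congr_fun (opA_one_be h c) m)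
  have hid : ∀ w ∈ W, opA ρ 1 (opB ρ 1 w) = w := by
    intro w hw
    have := DFunLike.congr_fun h.unit_one w
    change opA ρ 1 (opB ρ 1 w) + opB ρ 1 (opA ρ 1 w) = w at this
    rwa [(hW w).mp hw, map_zero, add_zero] at this
  letI : SMul K W := ⟨fun c w => ⟨be ρ c w, hmem c w⟩⟩
  have hsmul : ∀ (c : K) (w : W), ((c • w : W) : M) = be ρ c w := fun c w => rfl
  letI : Module K W :=
    { one_smul := fun w => Subtype.ext (by
        rw [hsmul, be_one h]; exact hid w w.2)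
      mul_smul := fun c d w => Subtype.ext (by
        rw [hsmul, hsmul, hsmul, be_mul h]; rfl)
      smul_zero := fun c => Subtype.ext (by rw [hsmul]; simp)
      smul_add := fun c w w' => Subtype.ext (by
        rw [AddSubgroup.coe_add, hsmul, hsmul, hsmul, AddSubgroup.coe_add, map_add])
      add_smul := fun c d w => Subtype.ext (by
        rw [AddSubgroup.coe_add, hsmul, hsmul, hsmul, be_add h]; rfl)
      zero_smul := fun w => Subtype.ext (by rw [hsmul, be_zero h]; rfl) }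
  have hB : ∀ w : M, opB ρ 1 (opB ρ 1 w) = 0 := fun w => DFunLike.congr_fun (h.opB_sq 1) w
  have hA : ∀ w : M, opA ρ 1 (opA ρ 1 w) = 0 := fun w => DFunLike.congr_fun (h.opA_sq 1) w
  let Φ : (W × W) ≃+ M :=
    { toFun := fun x => (x.1 : M) + opB ρ 1 x.2
      invFun := fun m => (⟨opA ρ 1 (opB ρ 1 m), (hW _).mpr (hA _)⟩, ⟨opA ρ 1 m, (hW _).mpr (hA _)⟩)
      left_inv := fun x => by
        refine Prod.ext (Subtype.ext ?_) (Subtype.ext ?_)
        · show opA ρ 1 (opB ρ 1 ((x.1 : M) + opB ρ 1 x.2)) = x.1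
          rw [map_add, hB, add_zero, hid _ x.1.2]
        · show opA ρ 1 ((x.1 : M) + opB ρ 1 x.2) = x.2
          rw [map_add, (hW _).mp x.1.2, zero_add, hid _ x.2.2]
      right_inv := fun m => DFunLike.congr_fun h.unit_one m
      map_add' := fun x y => by
        show ((x.1 + y.1 : W) : M) + opB ρ 1 ((x.2 + y.2 : W) : M) = _
        rw [AddSubgroup.coe_add, AddSubgroup.coe_add, map_add]
        abel }
  have hΦA : ∀ a b : W, opA ρ 1 (Φ (a, b)) = b := fun a b => congrArg Subtype.val (congrArg Prod.snd (Φ.symm_apply_apply (a, b)))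
  refine ⟨{ W := W, Φ := Φ, up_apply := ?_, wm_apply := ?_, dm_apply := ?_ }⟩
  · intro c a b
    rw [h.rho_up, opA_eq h c]
    show Φ (a, b) + be ρ c (opA ρ 1 (Φ (a, b))) = Φ (a + c • b, b)
    rw [hΦA]
    show (a : M) + opB ρ 1 b + be ρ c b = ((a + c • b : W) : M) + opB ρ 1 b
    rw [AddSubgroup.coe_add, hsmul]
    abel
  · intro a b
    rw [h.rho_wm]
    show opA ρ 1 (Φ (a, b)) + opB ρ 1 ((a : M) + opB ρ 1 b) = (b : M) + opB ρ 1 a
    rw [hΦA, map_add, hB, add_zero]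
  · intro c hc a b
    rw [rho_dm h hc]
    show be ρ c ((a : M) + opB ρ 1 b) + opB ρ 1 (be ρ c⁻¹ (opA ρ 1 (Φ (a, b)))) = _
    rw [hΦA, map_add]
    have hbB : be ρ c (opB ρ 1 b) = 0 := by
      show opA ρ 1 (opB ρ 1 (opA ρ c (opB ρ 1 (opB ρ 1 b)))) = 0
      rw [hB]; simp
    rw [hbB, add_zero]
    rfl

end CfsgLib.SL2Fpf
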